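import Mathlib
import Cfsg.Prelude.Def_Transfer
import Cfsg.Prelude.Def_LieExceptional
import Cfsg.Prelude.Def_Solvable

set_option autoImplicit false

/-!
# S3043 (Bender: a TI-subgroup `M` with `N_G(M) = M C_N(z)` and many involutions): shared definitions

`M` is a TI-subgroup of the finite group `G`, `z` an involution of `N = N_G(M)` with `N = M C_N(z)`,
all `C_G(x)`, `x ∈ M^#`, have odd order, `M` is not normal and `G` has more than `|G : M|` involutions.
Blueprint: `notes/S3043_blueprint_helper6.md`.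
-/

namespace Cfsg.Agent.BTI

variable {G : Type*} [Group G]

/-- The conjugate `g H g⁻¹`. -/
abbrev cj (g : G) (H : Subgroup G) : Subgroup G := H.map (MulAut.conj g).toMonoidHom

/-- `N = N_G(M)`. -/
abbrev nN (M : Subgroup G) : Subgroup G := Subgroup.normalizer (M : Set G)

/-- `C = C_N(z)`. -/
abbrev cC (M : Subgroup G) (z : G) : Subgroup G :=
  Subgroup.normalizer (M : Set G) ⊓ Subgroup.centralizer ({z} : Set G)

/-- The hypotheses of S3043 together with the negations of its first two alternatives. -/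
structure Hyp [Finite G] (M : Subgroup G) (z : G) : Prop where
  hM1 : M ≠ ⊥
  hTI : ∀ g : G, M ⊓ M.map (MulAut.conj g).toMonoidHom ≠ ⊥ →
    M.map (MulAut.conj g).toMonoidHom = M
  hz : orderOf z = 2
  hzN : z ∈ Subgroup.normalizer (M : Set G)
  hfac : M ⊔ (Subgroup.normalizer (M : Set G) ⊓ Subgroup.centralizer ({z} : Set G)) =
    Subgroup.normalizer (M : Set G)
  hodd : ∀ x ∈ M, x ≠ 1 → Odd (Nat.card ↥(Subgroup.centralizer ({x} : Set G)))
  hnn : ¬ M.Normal
  hcnt : M.index < Nat.card {g : G // orderOf g = 2}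

/-- The number of fixed points of `z` on `G ⧸ N`. -/
noncomputable def fZ (M : Subgroup G) (z : G) : ℕ :=
  Nat.card {q : G ⧸ nN M // z • q = q}

theorem mem_cj {g x : G} {H : Subgroup G} : x ∈ cj g H ↔ g⁻¹ * x * g ∈ H := by
  constructor
  · rintro ⟨y, hy, rfl⟩
    have : g⁻¹ * ((MulAut.conj g).toMonoidHom y) * g = y := by
      simp [MulAut.conj_apply, mul_assoc]
    rw [this]
    exact hy
  · intro h
    refine ⟨g⁻¹ * x * g, h, ?_⟩
    simp [MulAut.conj_apply, mul_assoc]

/-- `z` fixes the point `gN` iff `z ∈ g N g⁻¹`. -/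
theorem smul_mk_eq_iff (M : Subgroup G) (z g : G) :
    z • ((g : G) : G ⧸ nN M) = ((g : G) : G ⧸ nN M) ↔ z ∈ cj g (nN M) := by
  rw [mem_cj]
  show ((z * g : G) : G ⧸ nN M) = ((g : G) : G ⧸ nN M) ↔ _
  rw [QuotientGroup.eq]
  constructor
  · intro h
    have := (nN M).inv_mem h
    simpa [mul_assoc] using this
  · intro h
    have := (nN M).inv_mem h
    simpa [mul_assoc] using this

end Cfsg.Agent.BTI
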