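import Mathlib
import Cfsg.Agent.BTI.Defs
import Cfsg.Agent.Helper6.InvolSylowA

set_option autoImplicit false

/-! S3043 package P1  (file `Cfsg/Agent/BTI/Basic.lean`) -/

namespace Cfsg.Agent.BTI

open MulAction

variable {G : Type*} [Group G] [Finite G] {M : Subgroup G} {z : G}

theorem bti_z_sq (h : Hyp M z) : z * z = 1 := by
  have h1 := pow_orderOf_eq_one z
  rw [h.hz, pow_two] at h1
  exact h1

theorem bti_z_inv (h : Hyp M z) : z⁻¹ = z := inv_eq_of_mul_eq_one_left (bti_z_sq h)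

/-- an element of order two squares to one -/
theorem bti_basic_sq_of_order {u : G} (hu : orderOf u = 2) : u * u = 1 := by
  have h1 := pow_orderOf_eq_one u
  rw [hu, pow_two] at h1
  exact h1

theorem bti_basic_inv_of_order {u : G} (hu : orderOf u = 2) : u⁻¹ = u :=
  inv_eq_of_mul_eq_one_left (bti_basic_sq_of_order hu)

/-- a nontrivial element squaring to one has order two -/
theorem bti_basic_order_of_sq {u : G} (hu : u * u = 1) (hu1 : u ≠ 1) : orderOf u = 2 := by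
  have h2 : u ^ 2 = 1 := by rw [pow_two]; exact hu
  exact orderOf_eq_prime h2 hu1

/-- no involution centralises a nonidentity element of `M` -/
theorem bti_no_invol_comm (h : Hyp M z) {x u : G} (hx : x ∈ M) (hx1 : x ≠ 1) (hu : orderOf u = 2) :
    u * x ≠ x * u := by
  intro hc
  have hmem : u ∈ Subgroup.centralizer ({x} : Set G) := by
    rw [Subgroup.mem_centralizer_iff]
    intro y hy
    rw [Set.mem_singleton_iff] at hy
    rw [hy]
    exact hc.symm
  have hodd := h.hodd x hx hx1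
  have hdvd : orderOf u ∣ Nat.card (Subgroup.centralizer ({x} : Set G)) :=
    Subgroup.orderOf_dvd_natCard _ hmem
  rw [hu] at hdvd
  exact (Nat.not_even_iff_odd.mpr hodd) (even_iff_two_dvd.mpr hdvd)

theorem bti_odd_M (h : Hyp M z) : Odd (Nat.card M) := by
  rw [← Nat.not_even_iff_odd]
  intro hev
  have h2 : 2 ∣ Nat.card M := even_iff_two_dvd.mp hev
  haveI : Fact (Nat.Prime 2) := ⟨Nat.prime_two⟩
  obtain ⟨u, hu⟩ := exists_prime_orderOf_dvd_card' 2 h2
  have hu' : orderOf (u : G) = 2 := by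
    rw [Subgroup.orderOf_coe]; exact hu
  have hu1 : (u : G) ≠ 1 := by
    intro h1
    rw [h1, orderOf_one] at hu'
    omega
  exact bti_no_invol_comm h u.2 hu1 hu' rfl

theorem bti_three_le (h : Hyp M z) : 3 ≤ Nat.card M := by
  have hodd := bti_odd_M h
  have h1 : Nat.card M ≠ 1 := by
    intro h1
    exact h.hM1 (Subgroup.card_eq_one.mp h1)
  have h0 : Nat.card M ≠ 0 := Nat.card_pos.ne'
  obtain ⟨k, hk⟩ := hodd
  omega

/-- an involution of `N` inverts `M`, and `M` is abelian -/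
theorem bti_basic_inverts (h : Hyp M z) {u : G} (hu : u ∈ nN M) (hu2 : orderOf u = 2) :
    (∀ r ∈ M, u * r * u⁻¹ = r⁻¹) ∧ ∀ r ∈ M, ∀ s ∈ M, r * s = s * r := by
  refine Cfsg.Agent.Helper6.inverts_of_fixedPointFree M u (bti_basic_sq_of_order hu2) ?_ ?_
  · intro r hr
    exact (Subgroup.mem_normalizer_iff.mp hu r).mp hr
  · intro r hr hfix
    by_contra hr1
    refine bti_no_invol_comm h hr hr1 hu2 ?_
    calc u * r = (u * r * u⁻¹) * u := by group
      _ = r * u := by rw [hfix]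

theorem bti_z_inverts (h : Hyp M z) {x : G} (hx : x ∈ M) : z * x * z⁻¹ = x⁻¹ :=
  (bti_basic_inverts h h.hzN h.hz).1 x hx

theorem bti_M_comm (h : Hyp M z) {x y : G} (hx : x ∈ M) (hy : y ∈ M) : x * y = y * x :=
  (bti_basic_inverts h h.hzN h.hz).2 x hx y hy

theorem bti_M_le_N (M : Subgroup G) : M ≤ nN M := Subgroup.le_normalizer

theorem bti_M_inf_C (h : Hyp M z) : M ⊓ cC M z = ⊥ := by
  rw [eq_bot_iff]
  intro x hx
  rw [Subgroup.mem_bot]
  obtain ⟨hxM, hxC⟩ := Subgroup.mem_inf.mp hx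
  obtain ⟨_, hxz⟩ := Subgroup.mem_inf.mp hxC
  by_contra hx1
  have hc : z * x = x * z := by
    have := Subgroup.mem_centralizer_iff.mp hxz z (Set.mem_singleton z)
    exact this
  exact bti_no_invol_comm h hxM hx1 h.hz hc

theorem bti_basic_C_le_N (M : Subgroup G) (z : G) : cC M z ≤ nN M := inf_le_left

/-- every element of `N` is uniquely `x * y`, `x ∈ M`, `y ∈ C` -/
theorem bti_N_decomp (h : Hyp M z) {u : G} (hu : u ∈ nN M) : ∃ x ∈ M, ∃ y ∈ cC M z, u = x * y := by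
  have hle : cC M z ≤ Subgroup.normalizer (M : Set G) := inf_le_left
  have hcoe := Subgroup.coe_mul_of_right_le_normalizer_left M (cC M z) hle
  have hu' : u ∈ M ⊔ cC M z := by
    have := h.hfac
    show u ∈ M ⊔ (Subgroup.normalizer (M : Set G) ⊓ Subgroup.centralizer ({z} : Set G))
    rw [this]; exact hu
  have hu'' : u ∈ ((M ⊔ cC M z : Subgroup G) : Set G) := hu'
  rw [hcoe] at hu''
  obtain ⟨x, hx, y, hy, hxy⟩ := hu''
  exact ⟨x, hx, y, hy, hxy.symm⟩

theorem bti_card_N (h : Hyp M z) : Nat.card (nN M) = Nat.card M * Nat.card (cC M z) := by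
  rw [← Nat.card_prod]
  symm
  let φ : M × cC M z → nN M := fun p =>
    ⟨(p.1 : G) * (p.2 : G), (nN M).mul_mem (bti_M_le_N M p.1.2) (bti_basic_C_le_N M z p.2.2)⟩
  refine Nat.card_congr (Equiv.ofBijective φ ⟨?_, ?_⟩)
  · rintro ⟨x, y⟩ ⟨x', y'⟩ hxy
    have h1 : (x : G) * (y : G) = (x' : G) * (y' : G) := congrArg Subtype.val hxy
    have h2 : (x' : G)⁻¹ * (x : G) = (y' : G) * (y : G)⁻¹ := by
      calc (x' : G)⁻¹ * (x : G) = (x' : G)⁻¹ * ((x : G) * (y : G)) * (y : G)⁻¹ := by group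
        _ = (y' : G) * (y : G)⁻¹ := by rw [h1]; group
    have h3 : (x' : G)⁻¹ * (x : G) ∈ M ⊓ cC M z := by
      refine Subgroup.mem_inf.mpr ⟨M.mul_mem (M.inv_mem x'.2) x.2, ?_⟩
      rw [h2]
      exact (cC M z).mul_mem y'.2 ((cC M z).inv_mem y.2)
    rw [bti_M_inf_C h, Subgroup.mem_bot] at h3
    have hx : (x : G) = x' := by
      have := inv_mul_eq_one.mp h3
      exact this.symm
    have hy : (y : G) = y' := by
      rw [hx] at h1
      exact mul_left_cancel h1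
    exact Prod.ext (Subtype.ext hx) (Subtype.ext hy)
  · rintro ⟨u, hu⟩
    obtain ⟨x, hx, y, hy, hxy⟩ := bti_N_decomp h hu
    exact ⟨(⟨x, hx⟩, ⟨y, hy⟩), Subtype.ext hxy.symm⟩

theorem bti_basic_z_mem_C (h : Hyp M z) : z ∈ cC M z := by
  refine Subgroup.mem_inf.mpr ⟨h.hzN, ?_⟩
  rw [Subgroup.mem_centralizer_iff]
  intro y hy
  rw [Set.mem_singleton_iff] at hy
  rw [hy]

theorem bti_basic_exists_ne_one (h : Hyp M z) : ∃ x ∈ M, x ≠ 1 := by
  by_contra hcon
  push_neg at hcon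
  exact h.hM1 ((Subgroup.eq_bot_iff_forall M).mpr hcon)

theorem bti_C_invol (h : Hyp M z) {u : G} (hu : u ∈ cC M z) (hu2 : orderOf u = 2) : u = z := by
  obtain ⟨huN, huz⟩ := Subgroup.mem_inf.mp hu
  have hcomm : z * u = u * z := Subgroup.mem_centralizer_iff.mp huz z (Set.mem_singleton z)
  have hinvu := (bti_basic_inverts h huN hu2).1
  have hsq : (u * z) * (u * z) = 1 := by
    calc (u * z) * (u * z) = u * (z * u) * z := by group
      _ = u * (u * z) * z := by rw [hcomm]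
      _ = (u * u) * (z * z) := by group
      _ = 1 := by rw [bti_basic_sq_of_order hu2, bti_z_sq h, one_mul]
  by_contra hne
  have hne1 : u * z ≠ 1 := by
    intro h1
    apply hne
    have : u = z⁻¹ := eq_inv_of_mul_eq_one_left h1
    rw [this, bti_z_inv h]
  have hord : orderOf (u * z) = 2 := bti_basic_order_of_sq hsq hne1
  obtain ⟨x, hx, hx1⟩ := bti_basic_exists_ne_one h
  refine bti_no_invol_comm h hx hx1 hord ?_
  have h1 : z * x * z⁻¹ = x⁻¹ := bti_z_inverts h hx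
  have h2 : u * x⁻¹ * u⁻¹ = x := by
    have := hinvu x⁻¹ (M.inv_mem hx)
    rw [inv_inv] at this
    exact this
  calc u * z * x = u * (z * x * z⁻¹) * u⁻¹ * (u * z) := by group
    _ = (u * x⁻¹ * u⁻¹) * (u * z) := by rw [h1]
    _ = x * (u * z) := by rw [h2]

theorem bti_even_C (h : Hyp M z) : Even (Nat.card (cC M z)) := by
  rw [even_iff_two_dvd]
  have := Subgroup.orderOf_dvd_natCard (cC M z) (bti_basic_z_mem_C h)
  rw [h.hz] at this
  exact this

/-- square roots in `M` (odd order) -/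
theorem bti_basic_sqrt (h : Hyp M z) {x : G} (hx : x ∈ M) : ∃ y ∈ M, y * y = x := by
  have hodd : Odd (orderOf x) := by
    have hdvd : orderOf x ∣ Nat.card M := Subgroup.orderOf_dvd_natCard M hx
    exact Odd.of_dvd_nat (bti_odd_M h) hdvd
  obtain ⟨k, hk⟩ := hodd
  refine ⟨x ^ (k + 1), M.pow_mem hx _, ?_⟩
  rw [← pow_add]
  have : k + 1 + (k + 1) = orderOf x + 1 := by omega
  rw [this, pow_succ, pow_orderOf_eq_one, one_mul]

/-- the coset `zM` consists of `M`-conjugates of `z` -/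
theorem bti_zM (h : Hyp M z) {x : G} (hx : x ∈ M) : ∃ y ∈ M, z * x = y * z * y⁻¹ := by
  obtain ⟨y, hy, hyy⟩ := bti_basic_sqrt h (M.inv_mem hx)
  refine ⟨y, hy, ?_⟩
  have h1 : z * x * z⁻¹ = x⁻¹ := bti_z_inverts h hx
  have h2 : z * y⁻¹ * z⁻¹ = y := by
    have := bti_z_inverts h (M.inv_mem hy)
    rw [inv_inv] at this
    exact this
  calc z * x = (z * x * z⁻¹) * z := by group
    _ = x⁻¹ * z := by rw [h1]
    _ = y * y * z := by rw [hyy]
    _ = y * (z * y⁻¹ * z⁻¹) * z := by rw [h2]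
    _ = y * z * y⁻¹ := by group

/-- the involutions of `N` are the `M`-conjugates of `z` -/
theorem bti_N_invol (h : Hyp M z) {u : G} (hu : u ∈ nN M) (hu2 : orderOf u = 2) :
    ∃ x ∈ M, u = x * z * x⁻¹ := by
  obtain ⟨x, hx, w, hw, rfl⟩ := bti_N_decomp h hu
  have hwN : w ∈ nN M := bti_basic_C_le_N M z hw
  have hsq := bti_basic_sq_of_order hu2
  -- `w * w ∈ M`
  have hwx : w * x * w⁻¹ ∈ M := (Subgroup.mem_normalizer_iff.mp hwN x).mp hx
  have hww : w * w = (x * (w * x * w⁻¹))⁻¹ := by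
    have h1 : x * (w * x * w⁻¹) * (w * w) = 1 := by
      calc x * (w * x * w⁻¹) * (w * w) = (x * w) * (x * w) := by group
        _ = 1 := hsq
    exact eq_inv_of_mul_eq_one_right h1
  have hwwM : w * w ∈ M ⊓ cC M z := by
    refine Subgroup.mem_inf.mpr ⟨?_, (cC M z).mul_mem hw hw⟩
    rw [hww]
    exact M.inv_mem (M.mul_mem hx hwx)
  rw [bti_M_inf_C h, Subgroup.mem_bot] at hwwM
  by_cases hw1 : w = 1
  · exfalso
    rw [hw1, mul_one] at hu2
    have hdvd : orderOf x ∣ Nat.card M := Subgroup.orderOf_dvd_natCard M hx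
    rw [hu2] at hdvd
    exact (Nat.not_even_iff_odd.mpr (bti_odd_M h)) (even_iff_two_dvd.mpr hdvd)
  · have hwz : w = z := bti_C_invol h hw (bti_basic_order_of_sq hwwM hw1)
    rw [hwz]
    -- `x * z = (z * x⁻¹)`, an element of `zM`
    obtain ⟨y, hy, hyz⟩ := bti_zM h (M.inv_mem hx)
    refine ⟨y, hy, ?_⟩
    rw [← hyz]
    have h1 : z * x⁻¹ * z⁻¹ = x := by
      have := bti_z_inverts h (M.inv_mem hx)
      rw [inv_inv] at this
      exact this
    calc x * z = (z * x⁻¹ * z⁻¹) * z := by rw [h1]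
      _ = z * x⁻¹ := by group

theorem bti_invol_inverts (h : Hyp M z) {u x : G} (hu : u ∈ nN M) (hu2 : orderOf u = 2)
    (hx : x ∈ M) : u * x * u⁻¹ = x⁻¹ :=
  (bti_basic_inverts h hu hu2).1 x hx

/-- for an involution `u` of `N` and `y ∈ N` the commutator lies in `M` (the image of `u` in `N/M` is central) -/
theorem bti_comm_mem_M (h : Hyp M z) {u y : G} (hu : u ∈ nN M) (hu2 : orderOf u = 2)
    (hy : y ∈ nN M) : u * y * u⁻¹ * y⁻¹ ∈ M := by
  -- the case `u = z`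
  have hz : ∀ y' ∈ nN M, z * y' * z⁻¹ * y'⁻¹ ∈ M := by
    intro y' hy'
    obtain ⟨x, hx, w, hw, rfl⟩ := bti_N_decomp h hy'
    obtain ⟨_, hwz⟩ := Subgroup.mem_inf.mp hw
    have hcomm : z * w = w * z := Subgroup.mem_centralizer_iff.mp hwz z (Set.mem_singleton z)
    have h1 : z * x * z⁻¹ = x⁻¹ := bti_z_inverts h hx
    have h2 : z * w * z⁻¹ = w := by rw [hcomm]; group
    have : z * (x * w) * z⁻¹ * (x * w)⁻¹ = x⁻¹ * x⁻¹ := by
      calc z * (x * w) * z⁻¹ * (x * w)⁻¹ = (z * x * z⁻¹) * (z * w * z⁻¹) * w⁻¹ * x⁻¹ := by group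
        _ = x⁻¹ * w * w⁻¹ * x⁻¹ := by rw [h1, h2]
        _ = x⁻¹ * x⁻¹ := by group
    rw [this]
    exact M.mul_mem (M.inv_mem hx) (M.inv_mem hx)
  obtain ⟨x₀, hx₀, rfl⟩ := bti_N_invol h hu hu2
  have hx₀N : x₀ ∈ nN M := bti_M_le_N M hx₀
  have hy' : x₀⁻¹ * y * x₀ ∈ nN M :=
    (nN M).mul_mem ((nN M).mul_mem ((nN M).inv_mem hx₀N) hy) hx₀N
  have h1 := hz _ hy'
  have h2 : x₀ * z * x₀⁻¹ * y * (x₀ * z * x₀⁻¹)⁻¹ * y⁻¹ =
      x₀ * (z * (x₀⁻¹ * y * x₀) * z⁻¹ * (x₀⁻¹ * y * x₀)⁻¹) * x₀⁻¹ := by group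
  rw [h2]
  exact M.mul_mem (M.mul_mem hx₀ h1) (M.inv_mem hx₀)

theorem bti_TI (h : Hyp M z) {g : G} (hg : g ∉ nN M) : M ⊓ cj g M = ⊥ := by
  by_contra hne
  have heq : cj g M = M := h.hTI g hne
  apply hg
  rw [Subgroup.mem_normalizer_iff]
  intro x
  constructor
  · intro hx
    rw [← heq, mem_cj]
    have : g⁻¹ * (g * x * g⁻¹) * g = x := by group
    rw [this]; exact hx
  · intro hx
    rw [← heq, mem_cj] at hx
    have : g⁻¹ * (g * x * g⁻¹) * g = x := by group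
    rw [this] at hx; exact hx

theorem bti_mem_N_of_conj_mem (h : Hyp M z) {g x : G} (hx : x ∈ M) (hx1 : x ≠ 1)
    (hgx : g * x * g⁻¹ ∈ M) : g ∈ nN M := by
  by_contra hg
  have hbot := bti_TI h hg
  have hmem : g * x * g⁻¹ ∈ M ⊓ cj g M := by
    refine Subgroup.mem_inf.mpr ⟨hgx, ?_⟩
    rw [mem_cj]
    have : g⁻¹ * (g * x * g⁻¹) * g = x := by group
    rw [this]; exact hx
  rw [hbot, Subgroup.mem_bot] at hmem
  apply hx1
  have : x = g⁻¹ * (g * x * g⁻¹) * g := by group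
  rw [this, hmem]; group

theorem bti_cent_le_N (h : Hyp M z) {x : G} (hx : x ∈ M) (hx1 : x ≠ 1) :
    Subgroup.centralizer ({x} : Set G) ≤ nN M := by
  intro g hg
  have hc : x * g = g * x := Subgroup.mem_centralizer_iff.mp hg x (Set.mem_singleton x)
  refine bti_mem_N_of_conj_mem h hx hx1 ?_
  have : g * x * g⁻¹ = x := by rw [← hc]; group
  rw [this]; exact hx

theorem bti_N_ne_top (h : Hyp M z) : nN M ≠ ⊤ := by
  intro htop
  exact h.hnn (Subgroup.normalizer_eq_top_iff.mp htop)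

theorem bti_card_G (h : Hyp M z) :
    Nat.card G = (nN M).index * (Nat.card M * Nat.card (cC M z)) := by
  rw [← bti_card_N h, Subgroup.index_mul_card]

end Cfsg.Agent.BTI
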