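import Mathlib
import Cfsg.Agent.BTI.Basic

set_option autoImplicit false

/-! S3043 package P2  (file `Cfsg/Agent/BTI/Count.lean`) -/

namespace Cfsg.Agent.BTI

open MulAction

variable {G : Type*} [Group G] [Finite G] {M : Subgroup G} {z : G}

/-- an element of order two squares to one -/
theorem bti_count_sq {t : G} (ht : orderOf t = 2) : t * t = 1 := by
  have := pow_orderOf_eq_one t
  rw [ht, pow_two] at this
  exact this

theorem bti_count_inv {t : G} (ht : orderOf t = 2) : t⁻¹ = t :=
  inv_eq_of_mul_eq_one_right (bti_count_sq ht)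

theorem bti_count_ne_one {t : G} (ht : orderOf t = 2) : t ≠ 1 := by
  intro h1
  rw [h1, orderOf_one] at ht
  omega

theorem bti_count_orderOf_two {t : G} (h1 : t ≠ 1) (h2 : t * t = 1) : orderOf t = 2 := by
  have : Fact (Nat.Prime 2) := ⟨Nat.prime_two⟩
  exact orderOf_eq_prime (by rw [pow_two]; exact h2) h1

/-- a left coset `gM`, `g ∉ N`, contains at most one involution -/
theorem bti_coset_invol_unique (h : Hyp M z) {g t t' : G} (hg : g ∉ nN M) (ht : orderOf t = 2)
    (ht' : orderOf t' = 2) (hx : g⁻¹ * t ∈ M) (hx' : g⁻¹ * t' ∈ M) : t = t' := by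
  by_contra hne
  have hxM : t⁻¹ * t' ∈ M := by
    have := M.mul_mem (M.inv_mem hx) hx'
    simpa [mul_assoc] using this
  have hx1 : t⁻¹ * t' ≠ 1 := by
    intro h1
    apply hne
    have := congrArg (fun y => t * y) h1
    simpa [mul_assoc] using this.symm
  have hconj : t * (t⁻¹ * t') * t⁻¹ ∈ M := by
    have h2 : t * (t⁻¹ * t') * t⁻¹ = (t⁻¹ * t')⁻¹ := by
      have e1 : t * (t⁻¹ * t') * t⁻¹ = t' * t⁻¹ := by group
      have e2 : (t⁻¹ * t')⁻¹ = t'⁻¹ * t := by group
      rw [e1, e2, bti_count_inv ht, bti_count_inv ht']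
    rw [h2]
    exact M.inv_mem hxM
  have htN : t ∈ nN M := bti_mem_N_of_conj_mem h hxM hx1 hconj
  apply hg
  have : g = t * (g⁻¹ * t)⁻¹ := by group
  rw [this]
  exact (nN M).mul_mem htN ((nN M).inv_mem (bti_M_le_N M hx))

/-- injectivity of `(t, x) ↦ t * x` on (involutions outside `N`) × `M` -/
theorem bti_count_inj (h : Hyp M z) {t t' x x' : G} (ht : orderOf t = 2) (htN : t ∉ nN M)
    (ht' : orderOf t' = 2) (hx : x ∈ M) (hx' : x' ∈ M) (he : t * x = t' * x') :
    t = t' ∧ x = x' := by
  have h1 : t⁻¹ * t ∈ M := by simp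
  have h2 : t⁻¹ * t' ∈ M := by
    have : t⁻¹ * t' = x * x'⁻¹ := by
      have := congrArg (fun y => t⁻¹ * y * x'⁻¹) he
      simp only [mul_assoc] at this
      simp only [inv_mul_cancel_left, mul_inv_cancel, mul_one] at this
      exact this.symm
    rw [this]
    exact M.mul_mem hx (M.inv_mem hx')
  have htt : t = t' := bti_coset_invol_unique h htN ht ht' h1 h2
  refine ⟨htt, ?_⟩
  subst htt
  exact mul_left_cancel he

/-- injectivity of `(a, b) ↦ a * g * b` on `M × M` for `g ∉ N` -/
theorem bti_count_inj2 (h : Hyp M z) {g a a' b b' : G} (hg : g ∉ nN M) (ha : a ∈ M) (ha' : a' ∈ M)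
    (hb : b ∈ M) (hb' : b' ∈ M) (he : a * g * b = a' * g * b') : a = a' ∧ b = b' := by
  have hu : a'⁻¹ * a ∈ M ⊓ cj g M := by
    refine Subgroup.mem_inf.mpr ⟨M.mul_mem (M.inv_mem ha') ha, ?_⟩
    rw [mem_cj]
    have : g⁻¹ * (a'⁻¹ * a) * g = b' * b⁻¹ := by
      have := congrArg (fun y => g⁻¹ * (a'⁻¹ * y) * b⁻¹) he
      simp only [mul_assoc] at this
      simp only [mul_inv_cancel, mul_one, inv_mul_cancel_left] at this
      simpa [mul_assoc] using this
    rw [this]
    exact M.mul_mem hb' (M.inv_mem hb)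
  rw [bti_TI h hg, Subgroup.mem_bot] at hu
  have haa : a = a' := by
    have := congrArg (fun y => a' * y) hu
    simpa [mul_assoc] using this
  refine ⟨haa, ?_⟩
  subst haa
  exact mul_left_cancel he

/-- the involutions of `N` are in bijection with `M` via `x ↦ x z x⁻¹` -/
theorem bti_count_conj_inj (h : Hyp M z) {x y : G} (hx : x ∈ M) (hy : y ∈ M)
    (he : x * z * x⁻¹ = y * z * y⁻¹) : x = y := by
  by_contra hne
  have hw : y⁻¹ * x ∈ M := M.mul_mem (M.inv_mem hy) hx
  have hw1 : y⁻¹ * x ≠ 1 := by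
    intro h1
    apply hne
    have := congrArg (fun u => y * u) h1
    simpa [mul_assoc] using this
  apply bti_no_invol_comm h hw hw1 h.hz
  have := congrArg (fun u => y⁻¹ * u * x) he
  simp only [mul_assoc] at this
  simp only [inv_mul_cancel, mul_one, inv_mul_cancel_left] at this
  rw [← mul_assoc] at this
  exact this.symm

theorem bti_count_conj_invol (h : Hyp M z) {x : G} (hx : x ∈ M) :
    orderOf (x * z * x⁻¹) = 2 ∧ x * z * x⁻¹ ∈ nN M := by
  refine ⟨?_, ?_⟩
  · apply bti_count_orderOf_two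
    · intro h1
      apply bti_count_ne_one h.hz
      have := congrArg (fun u => x⁻¹ * u * x) h1
      simpa [mul_assoc] using this
    · have : x * z * x⁻¹ * (x * z * x⁻¹) = x * (z * z) * x⁻¹ := by group
      rw [this, bti_count_sq h.hz]
      group
  · exact (nN M).mul_mem ((nN M).mul_mem (bti_M_le_N M hx) h.hzN)
      ((nN M).inv_mem (bti_M_le_N M hx))

/-- the involutions of `N` are counted by `M` -/
theorem bti_count_card_invol_N (h : Hyp M z) :
    Nat.card {t : G // orderOf t = 2 ∧ t ∈ nN M} = Nat.card M := by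
  symm
  let f : M → {t : G // orderOf t = 2 ∧ t ∈ nN M} :=
    fun x => ⟨(x : G) * z * (x : G)⁻¹, bti_count_conj_invol h x.2⟩
  refine Nat.card_congr (Equiv.ofBijective f ⟨?_, ?_⟩)
  · intro x y hxy
    have := congrArg Subtype.val hxy
    exact Subtype.ext (bti_count_conj_inj h x.2 y.2 this)
  · rintro ⟨u, hu2, huN⟩
    obtain ⟨x, hx, rfl⟩ := bti_N_invol h huN hu2
    exact ⟨⟨x, hx⟩, rfl⟩

/-- splitting the involutions into those inside and outside `N` -/
theorem bti_count_card_split (M : Subgroup G) :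
    Nat.card {g : G // orderOf g = 2} =
      Nat.card {t : G // orderOf t = 2 ∧ t ∈ nN M} +
        Nat.card {t : G // orderOf t = 2 ∧ t ∉ nN M} := by
  classical
  rw [← Nat.card_sum]
  symm
  let f : {t : G // orderOf t = 2 ∧ t ∈ nN M} ⊕ {t : G // orderOf t = 2 ∧ t ∉ nN M} →
      {g : G // orderOf g = 2} := fun s =>
    match s with
    | Sum.inl t => ⟨t.1, t.2.1⟩
    | Sum.inr t => ⟨t.1, t.2.1⟩
  refine Nat.card_congr (Equiv.ofBijective f ⟨?_, ?_⟩)
  · rintro (⟨a, ha⟩ | ⟨a, ha⟩) (⟨b, hb⟩ | ⟨b, hb⟩) hab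
    · have : a = b := congrArg Subtype.val hab
      subst this; rfl
    · have : a = b := congrArg Subtype.val hab
      subst this; exact absurd ha.2 hb.2
    · have : a = b := congrArg Subtype.val hab
      subst this; exact absurd hb.2 ha.2
    · have : a = b := congrArg Subtype.val hab
      subst this; rfl
  · rintro ⟨g, hg⟩
    by_cases hgN : g ∈ nN M
    · exact ⟨Sum.inl ⟨g, hg, hgN⟩, rfl⟩
    · exact ⟨Sum.inr ⟨g, hg, hgN⟩, rfl⟩

/-- the map `(t, x) ↦ t x`, `n ↦ n` -/
noncomputable def bti_count_map (M : Subgroup G) :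
    ({t : G // orderOf t = 2 ∧ t ∉ nN M} × M) ⊕ (nN M) → G := fun s =>
  match s with
  | Sum.inl p => (p.1 : G) * (p.2 : G)
  | Sum.inr n => (n : G)

theorem bti_count_map_inj (h : Hyp M z) : Function.Injective (bti_count_map M) := by
  rintro (⟨⟨t, ht2, htN⟩, ⟨x, hx⟩⟩ | ⟨n, hn⟩) (⟨⟨t', ht2', htN'⟩, ⟨x', hx'⟩⟩ | ⟨n', hn'⟩) he
  · simp only [bti_count_map] at he
    obtain ⟨rfl, rfl⟩ := bti_count_inj h ht2 htN ht2' hx hx' he
    rfl
  · exfalso
    simp only [bti_count_map] at he
    apply htN
    have : t = n' * x⁻¹ := by rw [← he]; group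
    rw [this]
    exact (nN M).mul_mem hn' ((nN M).inv_mem (bti_M_le_N M hx))
  · exfalso
    simp only [bti_count_map] at he
    apply htN'
    have : t' = n * x'⁻¹ := by rw [he]; group
    rw [this]
    exact (nN M).mul_mem hn ((nN M).inv_mem (bti_M_le_N M hx'))
  · simp only [bti_count_map] at he
    subst he
    rfl

/-- ... and (because `G` has more than `|G : M|` involutions) at least one -/
theorem bti_coset_invol_exists (h : Hyp M z) {g : G} (hg : g ∉ nN M) :
    ∃ t, orderOf t = 2 ∧ g⁻¹ * t ∈ M := by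
  classical
  by_contra hno
  push Not at hno
  -- the extended injection
  let F : ({t : G // orderOf t = 2 ∧ t ∉ nN M} × M) ⊕ ((M × M) ⊕ (nN M)) → G := fun s =>
    match s with
    | Sum.inl p => (p.1 : G) * (p.2 : G)
    | Sum.inr (Sum.inl q) => (q.1 : G) * g * (q.2 : G)
    | Sum.inr (Sum.inr n) => (n : G)
  have hF : Function.Injective F := by
    rintro (⟨⟨t, ht2, htN⟩, ⟨x, hx⟩⟩ | ⟨⟨a, ha⟩, ⟨b, hb⟩⟩ | ⟨n, hn⟩)
      (⟨⟨t', ht2', htN'⟩, ⟨x', hx'⟩⟩ | ⟨⟨a', ha'⟩, ⟨b', hb'⟩⟩ | ⟨n', hn'⟩) he
    · simp only [F] at he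
      obtain ⟨rfl, rfl⟩ := bti_count_inj h ht2 htN ht2' hx hx' he
      rfl
    · exfalso
      simp only [F] at he
      -- t x = a' g b'  ⇒  the involution a'⁻¹ t a' lies in g M
      have h2 : orderOf (a'⁻¹ * t * a') = 2 := by
        apply bti_count_orderOf_two
        · intro h1
          apply bti_count_ne_one ht2
          have := congrArg (fun u => a' * u * a'⁻¹) h1
          simpa [mul_assoc] using this
        · have : a'⁻¹ * t * a' * (a'⁻¹ * t * a') = a'⁻¹ * (t * t) * a' := by group
          rw [this, bti_count_sq ht2]; group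
      apply hno _ h2
      have : g⁻¹ * (a'⁻¹ * t * a') = b' * x⁻¹ * a' := by
        have hg' : g = a'⁻¹ * (t * x) * b'⁻¹ := by rw [he]; group
        rw [hg']; group
      rw [this]
      exact M.mul_mem (M.mul_mem hb' (M.inv_mem hx)) ha'
    · exfalso
      simp only [F] at he
      apply htN
      have : t = n' * x⁻¹ := by rw [← he]; group
      rw [this]
      exact (nN M).mul_mem hn' ((nN M).inv_mem (bti_M_le_N M hx))
    · exfalso
      simp only [F] at he
      have h2 : orderOf (a⁻¹ * t' * a) = 2 := by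
        apply bti_count_orderOf_two
        · intro h1
          apply bti_count_ne_one ht2'
          have := congrArg (fun u => a * u * a⁻¹) h1
          simpa [mul_assoc] using this
        · have : a⁻¹ * t' * a * (a⁻¹ * t' * a) = a⁻¹ * (t' * t') * a := by group
          rw [this, bti_count_sq ht2']; group
      apply hno _ h2
      have : g⁻¹ * (a⁻¹ * t' * a) = b * x'⁻¹ * a := by
        have hg' : g = a⁻¹ * (t' * x') * b⁻¹ := by rw [← he]; group
        rw [hg']; group
      rw [this]
      exact M.mul_mem (M.mul_mem hb (M.inv_mem hx')) ha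
    · simp only [F] at he
      obtain ⟨rfl, rfl⟩ := bti_count_inj2 h hg ha ha' hb hb' he
      rfl
    · exfalso
      simp only [F] at he
      apply hg
      have : g = a⁻¹ * n' * b⁻¹ := by rw [← he]; group
      rw [this]
      exact (nN M).mul_mem ((nN M).mul_mem ((nN M).inv_mem (bti_M_le_N M ha)) hn')
        ((nN M).inv_mem (bti_M_le_N M hb))
    · exfalso
      simp only [F] at he
      apply htN'
      have : t' = n * x'⁻¹ := by rw [he]; group
      rw [this]
      exact (nN M).mul_mem hn ((nN M).inv_mem (bti_M_le_N M hx'))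
    · exfalso
      simp only [F] at he
      apply hg
      have : g = a'⁻¹ * n * b'⁻¹ := by rw [he]; group
      rw [this]
      exact (nN M).mul_mem ((nN M).mul_mem ((nN M).inv_mem (bti_M_le_N M ha')) hn)
        ((nN M).inv_mem (bti_M_le_N M hb'))
    · simp only [F] at he
      subst he
      rfl
  have hcard := Nat.card_le_card_of_injective F hF
  rw [Nat.card_sum, Nat.card_sum, Nat.card_prod, Nat.card_prod] at hcard
  have hi := bti_count_card_split (G := G) M
  rw [bti_count_card_invol_N h] at hi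
  have hcnt := h.hcnt
  have hidx : M.index * Nat.card M = Nat.card G := M.index_mul_card
  have hm : 0 < Nat.card M := Nat.card_pos
  set m := Nat.card M
  set iT := Nat.card {t : G // orderOf t = 2 ∧ t ∉ nN M}
  set cN := Nat.card (nN M)
  have h1 : M.index * m < (m + iT) * m := by
    rw [hi] at hcnt
    exact Nat.mul_lt_mul_of_pos_right hcnt hm
  nlinarith

theorem bti_count_map_surj (h : Hyp M z) : Function.Surjective (bti_count_map M) := by
  intro g
  by_cases hg : g ∈ nN M
  · exact ⟨Sum.inr ⟨g, hg⟩, rfl⟩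
  · obtain ⟨t, ht2, htM⟩ := bti_coset_invol_exists h hg
    have htN : t ∉ nN M := by
      intro htN
      apply hg
      have : g = t * (g⁻¹ * t)⁻¹ := by group
      rw [this]
      exact (nN M).mul_mem htN ((nN M).inv_mem (bti_M_le_N M htM))
    refine ⟨Sum.inl (⟨t, ht2, htN⟩, ⟨(g⁻¹ * t)⁻¹, M.inv_mem htM⟩), ?_⟩
    simp only [bti_count_map]
    group

/-- `|𝒯| · m + |N| = |G|` -/
theorem bti_count_card_eq (h : Hyp M z) :
    Nat.card {t : G // orderOf t = 2 ∧ t ∉ nN M} * Nat.card M + Nat.card (nN M) = Nat.card G := by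
  have := Nat.card_congr (Equiv.ofBijective (bti_count_map M)
    ⟨bti_count_map_inj h, bti_count_map_surj h⟩)
  rw [Nat.card_sum, Nat.card_prod] at this
  exact this

/-- the number of involutions outside `N`: `|𝒯| + c = n c` -/
theorem bti_count_card_out (h : Hyp M z) :
    Nat.card {t : G // orderOf t = 2 ∧ t ∉ nN M} + Nat.card (cC M z) =
      (nN M).index * Nat.card (cC M z) := by
  have h1 := bti_count_card_eq h
  rw [bti_card_N h, bti_card_G h] at h1
  have hm : 0 < Nat.card M := Nat.card_pos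
  have : Nat.card M * (Nat.card {t : G // orderOf t = 2 ∧ t ∉ nN M} + Nat.card (cC M z)) =
      Nat.card M * ((nN M).index * Nat.card (cC M z)) := by
    calc Nat.card M * (Nat.card {t : G // orderOf t = 2 ∧ t ∉ nN M} + Nat.card (cC M z))
        = Nat.card {t : G // orderOf t = 2 ∧ t ∉ nN M} * Nat.card M +
            Nat.card M * Nat.card (cC M z) := by ring
      _ = (nN M).index * (Nat.card M * Nat.card (cC M z)) := h1
      _ = Nat.card M * ((nN M).index * Nat.card (cC M z)) := by ring
  exact Nat.eq_of_mul_eq_mul_left hm this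

/-- the number of involutions: `i = m + (n - 1) c` -/
theorem bti_card_invol (h : Hyp M z) :
    Nat.card {g : G // orderOf g = 2} + Nat.card (cC M z) =
      Nat.card M + (nN M).index * Nat.card (cC M z) := by
  rw [bti_count_card_split (G := G) M, bti_count_card_invol_N h, ← bti_count_card_out h]
  ring

theorem bti_c_lt_m (h : Hyp M z) : Nat.card (cC M z) < Nat.card M := by
  have h1 := bti_card_invol h
  have hcnt := h.hcnt
  have hidx : M.index * Nat.card M = Nat.card G := M.index_mul_card
  rw [bti_card_G h] at hidx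
  have hm : 0 < Nat.card M := Nat.card_pos
  have hidx' : M.index = (nN M).index * Nat.card (cC M z) := by
    have : Nat.card M * M.index = Nat.card M * ((nN M).index * Nat.card (cC M z)) := by
      rw [mul_comm, hidx]; ring
    exact Nat.eq_of_mul_eq_mul_left hm this
  omega

end Cfsg.Agent.BTI
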