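import Mathlib
import Cfsg.Agent.BTI.Count

set_option autoImplicit false

/-! S3043 package P3  (file `Cfsg/Agent/BTI/TwoPt.lean`): two-point stabilisers, `M` semiregular. -/

namespace Cfsg.Agent.BTI

open MulAction

variable {G : Type*} [Group G] [Finite G] {M : Subgroup G} {z : G}

omit [Finite G] in
theorem bti_twoPt_conj_mem {n x : G} (hn : n ∈ nN M) (hx : x ∈ M) : n * x * n⁻¹ ∈ M :=
  (Subgroup.mem_normalizer_iff.mp hn x).mp hx

omit [Finite G] in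
theorem bti_twoPt_inv_of_invol {t : G} (ht : orderOf t = 2) : t⁻¹ = t := by
  have h2 : t ^ 2 = 1 := by rw [← ht]; exact pow_orderOf_eq_one t
  rw [pow_two] at h2
  exact inv_eq_of_mul_eq_one_left h2

omit [Finite G] in
theorem bti_twoPt_orderOf_conj (a t : G) : orderOf (a * t * a⁻¹) = orderOf t := by
  have := orderOf_injective (MulAut.conj a).toMonoidHom (MulAut.conj a).injective t
  simpa [MulAut.conj_apply] using this

omit [Finite G] in
theorem bti_twoPt_orderOf_conj' (a t : G) : orderOf (a⁻¹ * t * a) = orderOf t := by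
  have := bti_twoPt_orderOf_conj a⁻¹ t
  simpa using this

/-- for `y ∈ C` the double coset `M y M` meets the two-point stabiliser -/
theorem bti_twoPt_key (h : Hyp M z) {g : G} (hg : g ∉ nN M) {y : G} (hy : y ∈ cC M z) :
    ∃ a ∈ M, ∃ b ∈ M, a⁻¹ * y * b ∈ nN M ⊓ cj g (nN M) := by
  have hyN : y ∈ nN M := (Subgroup.mem_inf.mp hy).1
  have hgy : g * y ∉ nN M := fun hc => hg (by
    have := (nN M).mul_mem hc ((nN M).inv_mem hyN)
    simpa using this)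
  obtain ⟨t₁, ht₁, ha⟩ := bti_coset_invol_exists h hg
  obtain ⟨t₂, ht₂, hb⟩ := bti_coset_invol_exists h hgy
  refine ⟨g⁻¹ * t₁, ha, (g * y)⁻¹ * t₂, hb, ?_⟩
  refine Subgroup.mem_inf.mpr ⟨?_, ?_⟩
  · exact (nN M).mul_mem ((nN M).mul_mem ((nN M).inv_mem (bti_M_le_N M ha)) hyN)
      (bti_M_le_N M hb)
  · rw [mem_cj]
    have e1 : t₁⁻¹ = t₁ := bti_twoPt_inv_of_invol ht₁
    have e2 : t₂⁻¹ = t₂ := bti_twoPt_inv_of_invol ht₂
    have e : g⁻¹ * ((g⁻¹ * t₁)⁻¹ * y * ((g * y)⁻¹ * t₂)) * g =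
        (g⁻¹ * t₁) * ((g * y)⁻¹ * t₂)⁻¹ * y⁻¹ := by
      calc g⁻¹ * ((g⁻¹ * t₁)⁻¹ * y * ((g * y)⁻¹ * t₂)) * g
          = g⁻¹ * (t₁⁻¹ * t₂) * g := by group
        _ = g⁻¹ * (t₁ * t₂⁻¹) * g := by rw [e1, e2]
        _ = (g⁻¹ * t₁) * ((g * y)⁻¹ * t₂)⁻¹ * y⁻¹ := by group
    rw [e]
    exact (nN M).mul_mem ((nN M).mul_mem (bti_M_le_N M ha) ((nN M).inv_mem (bti_M_le_N M hb)))
      ((nN M).inv_mem hyN)

theorem bti_sup_twoPt (h : Hyp M z) {g : G} (hg : g ∉ nN M) :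
    M ⊔ (nN M ⊓ cj g (nN M)) = nN M := by
  apply le_antisymm
  · exact sup_le (bti_M_le_N M) inf_le_left
  · have hfac : M ⊔ cC M z = nN M := h.hfac
    rw [← hfac]
    apply sup_le le_sup_left
    intro y hy
    obtain ⟨a, ha, b, hb, hh⟩ := bti_twoPt_key h hg hy
    have e : y = a * (a⁻¹ * y * b) * b⁻¹ := by group
    rw [e]
    rw [hfac]
    exact Subgroup.mul_mem _ (Subgroup.mul_mem _ (Subgroup.mem_sup_left ha)
      (Subgroup.mem_sup_right hh)) (Subgroup.mem_sup_left (M.inv_mem hb))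

theorem bti_twoPt_z_mem_C (h : Hyp M z) : z ∈ cC M z := by
  refine Subgroup.mem_inf.mpr ⟨h.hzN, ?_⟩
  rw [Subgroup.mem_centralizer_iff]
  intro k hk
  rw [Set.mem_singleton_iff.mp hk]

/-- the two-point stabiliser contains an involution -/
theorem bti_twoPt_exists_invol (h : Hyp M z) {g : G} (hg : g ∉ nN M) :
    ∃ u, u ∈ nN M ⊓ cj g (nN M) ∧ orderOf u = 2 := by
  obtain ⟨a, ha, b, hb, hh⟩ := bti_twoPt_key h hg (bti_twoPt_z_mem_C h)
  refine ⟨a⁻¹ * z * b, hh, ?_⟩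
  have hza : z * a * z⁻¹ = a⁻¹ := bti_z_inverts h ha
  have h1 : z * a = a⁻¹ * z := by rw [← hza]; group
  have e : a⁻¹ * z * b = z * (a * b) := by rw [← h1, mul_assoc]
  obtain ⟨y, _, hy'⟩ := bti_zM h (M.mul_mem ha hb)
  rw [e, hy', bti_twoPt_orderOf_conj]
  exact h.hz

theorem bti_cjM_inf_N (h : Hyp M z) {g : G} (hg : g ∉ nN M) : cj g M ⊓ nN M = ⊥ := by
  obtain ⟨u, hu, hu2⟩ := bti_twoPt_exists_invol h hg
  rw [eq_bot_iff]
  intro y hy
  rw [Subgroup.mem_bot]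
  obtain ⟨hyM, hyN⟩ := Subgroup.mem_inf.mp hy
  obtain ⟨huN, hug⟩ := Subgroup.mem_inf.mp hu
  have hyM' := hyM
  rw [mem_cj] at hyM hug
  have hu'2 : orderOf (g⁻¹ * u * g) = 2 := by rw [bti_twoPt_orderOf_conj']; exact hu2
  have hinv := bti_invol_inverts h hug hu'2 hyM
  have huy : u * y * u⁻¹ = y⁻¹ := by
    have e : g * ((g⁻¹ * u * g) * (g⁻¹ * y * g) * (g⁻¹ * u * g)⁻¹) * g⁻¹ = u * y * u⁻¹ := by
      group
    rw [← e, hinv]
    group
  have hc := bti_comm_mem_M h huN hu2 hyN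
  rw [huy] at hc
  have hy2 : y * y ∈ M := by
    have := M.inv_mem hc
    simpa using this
  have hpow : y ^ Nat.card M = 1 := by
    have h1 : (g⁻¹ * y * g) ^ Nat.card M = 1 := by
      have h0 : (⟨g⁻¹ * y * g, hyM⟩ : M) ^ Nat.card M = 1 := pow_card_eq_one'
      have h00 := congrArg Subtype.val h0
      rwa [Subgroup.coe_pow, Subgroup.coe_one] at h00
    have h2 : y = g * (g⁻¹ * y * g) * g⁻¹ := by group
    rw [h2, conj_pow, h1]
    group
  obtain ⟨k, hk⟩ := bti_odd_M h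
  have hyk : y = (y * y) ^ (k + 1) := by
    have e : (y * y) ^ (k + 1) = y ^ (2 * k + 1) * y := by
      rw [← pow_two, ← pow_mul, ← pow_succ]
      congr 1
    rw [e, ← hk, hpow, one_mul]
  have hyM2 : y ∈ M := by rw [hyk]; exact M.pow_mem hy2 _
  have hTI := bti_TI h hg
  have : y ∈ M ⊓ cj g M := Subgroup.mem_inf.mpr ⟨hyM2, hyM'⟩
  rw [hTI, Subgroup.mem_bot] at this
  exact this

/-- `M` acts semiregularly on `Ω ∖ {α}` -/
theorem bti_M_inf_cjN (h : Hyp M z) {g : G} (hg : g ∉ nN M) : M ⊓ cj g (nN M) = ⊥ := by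
  have hg' : g⁻¹ ∉ nN M := fun hc => hg (by simpa using (nN M).inv_mem hc)
  have hbot := bti_cjM_inf_N h hg'
  rw [eq_bot_iff]
  intro x hx
  rw [Subgroup.mem_bot]
  obtain ⟨hxM, hxg⟩ := Subgroup.mem_inf.mp hx
  rw [mem_cj] at hxg
  have h1 : g⁻¹ * x * g ∈ cj g⁻¹ M ⊓ nN M := by
    refine Subgroup.mem_inf.mpr ⟨?_, hxg⟩
    rw [mem_cj]
    have e : g⁻¹⁻¹ * (g⁻¹ * x * g) * g⁻¹ = x := by group
    rw [e]
    exact hxM
  rw [hbot, Subgroup.mem_bot] at h1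
  have e : x = g * (g⁻¹ * x * g) * g⁻¹ := by group
  rw [e, h1]
  group

theorem bti_twoPt_M_inf_D (h : Hyp M z) {g : G} (hg : g ∉ nN M) :
    M ⊓ (nN M ⊓ cj g (nN M)) = ⊥ := by
  rw [eq_bot_iff, ← bti_M_inf_cjN h hg]
  exact inf_le_inf_left _ inf_le_right

theorem bti_card_twoPt (h : Hyp M z) {g : G} (hg : g ∉ nN M) :
    Nat.card ↥(nN M ⊓ cj g (nN M)) = Nat.card (cC M z) := by
  have hMD := bti_twoPt_M_inf_D h hg
  let φ : M × ↥(nN M ⊓ cj g (nN M)) → ↥(nN M) := fun p =>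
    ⟨(p.1 : G) * (p.2 : G), (nN M).mul_mem (bti_M_le_N M p.1.2) (Subgroup.mem_inf.mp p.2.2).1⟩
  have hinj : Function.Injective φ := by
    rintro ⟨⟨x, hx⟩, ⟨d, hd⟩⟩ ⟨⟨x', hx'⟩, ⟨d', hd'⟩⟩ hxy
    have hxy' : x * d = x' * d' := congrArg Subtype.val hxy
    have e : x'⁻¹ * x = d' * d⁻¹ := by
      have : x = x' * d' * d⁻¹ := by rw [← hxy']; group
      rw [this]; group
    have hm : x'⁻¹ * x ∈ M ⊓ (nN M ⊓ cj g (nN M)) := by
      refine Subgroup.mem_inf.mpr ⟨M.mul_mem (M.inv_mem hx') hx, ?_⟩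
      rw [e]
      exact Subgroup.mul_mem _ hd' (Subgroup.inv_mem _ hd)
    rw [hMD, Subgroup.mem_bot] at hm
    have hxx : x = x' := by
      have := inv_mul_eq_one.mp hm
      exact this.symm
    subst hxx
    have hdd : d = d' := mul_left_cancel hxy'
    subst hdd
    rfl
  have hsurj : Function.Surjective φ := by
    rintro ⟨n, hn⟩
    obtain ⟨x, hx, y, hy, rfl⟩ := bti_N_decomp h hn
    obtain ⟨a, ha, b, hb, hh⟩ := bti_twoPt_key h hg hy
    have hdN : a⁻¹ * y * b ∈ nN M := (Subgroup.mem_inf.mp hh).1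
    have hm : (a⁻¹ * y * b) * b⁻¹ * (a⁻¹ * y * b)⁻¹ ∈ M :=
      bti_twoPt_conj_mem hdN (M.inv_mem hb)
    refine ⟨(⟨x * a * ((a⁻¹ * y * b) * b⁻¹ * (a⁻¹ * y * b)⁻¹),
      M.mul_mem (M.mul_mem hx ha) hm⟩, ⟨a⁻¹ * y * b, hh⟩), ?_⟩
    apply Subtype.ext
    show x * a * ((a⁻¹ * y * b) * b⁻¹ * (a⁻¹ * y * b)⁻¹) * (a⁻¹ * y * b) = x * y
    group
  have hcard : Nat.card (M × ↥(nN M ⊓ cj g (nN M))) = Nat.card ↥(nN M) :=
    Nat.card_congr (Equiv.ofBijective φ ⟨hinj, hsurj⟩)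
  rw [Nat.card_prod, bti_card_N h] at hcard
  have hpos : 0 < Nat.card M := Nat.card_pos
  exact Nat.eq_of_mul_eq_mul_left hpos hcard

/-- an involution of `N` is congruent to `z` modulo `M` -/
theorem bti_twoPt_invol_mul_z (h : Hyp M z) {u : G} (hu : u ∈ nN M) (hu2 : orderOf u = 2) :
    u * z⁻¹ ∈ M := by
  obtain ⟨x, hx, rfl⟩ := bti_N_invol h hu hu2
  have hzx : z * x⁻¹ * z⁻¹ = x := by
    have := bti_z_inverts h (M.inv_mem hx)
    simpa using this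
  have e : x * z * x⁻¹ * z⁻¹ = x * (z * x⁻¹ * z⁻¹) := by group
  rw [e, hzx]
  exact M.mul_mem hx hx

/-- the two-point stabiliser has a unique involution -/
theorem bti_twoPt_invol (h : Hyp M z) {g : G} (hg : g ∉ nN M) :
    ∃ u, u ∈ nN M ⊓ cj g (nN M) ∧ orderOf u = 2 ∧
      ∀ u' ∈ nN M ⊓ cj g (nN M), orderOf u' = 2 → u' = u := by
  obtain ⟨u, hu, hu2⟩ := bti_twoPt_exists_invol h hg
  refine ⟨u, hu, hu2, ?_⟩
  intro u' hu' hu'2
  have h1 := bti_twoPt_invol_mul_z h (Subgroup.mem_inf.mp hu).1 hu2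
  have h2 := bti_twoPt_invol_mul_z h (Subgroup.mem_inf.mp hu').1 hu'2
  have hm : u' * u⁻¹ ∈ M ⊓ (nN M ⊓ cj g (nN M)) := by
    refine Subgroup.mem_inf.mpr ⟨?_, Subgroup.mul_mem _ hu' (Subgroup.inv_mem _ hu)⟩
    have e : u' * u⁻¹ = (u' * z⁻¹) * (u * z⁻¹)⁻¹ := by group
    rw [e]
    exact M.mul_mem h2 (M.inv_mem h1)
  rw [bti_twoPt_M_inf_D h hg, Subgroup.mem_bot] at hm
  exact mul_inv_eq_one.mp hm

/-- exactly `c` involutions map the point `N` to the point `gN` -/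
theorem bti_swap_card (h : Hyp M z) {g : G} (hg : g ∉ nN M) :
    Nat.card {t : G // orderOf t = 2 ∧ g⁻¹ * t ∈ nN M} = Nat.card (cC M z) := by
  have hgy : ∀ y : ↥(cC M z), g * (y : G) ∉ nN M := fun y hc => hg (by
    have := (nN M).mul_mem hc ((nN M).inv_mem (Subgroup.mem_inf.mp y.2).1)
    simpa using this)
  let ψ : ↥(cC M z) → {t : G // orderOf t = 2 ∧ g⁻¹ * t ∈ nN M} := fun y =>
    ⟨Classical.choose (bti_coset_invol_exists h (hgy y)),
      (Classical.choose_spec (bti_coset_invol_exists h (hgy y))).1, by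
        have hm := (Classical.choose_spec (bti_coset_invol_exists h (hgy y))).2
        have e : g⁻¹ * Classical.choose (bti_coset_invol_exists h (hgy y)) =
            (y : G) * ((g * (y : G))⁻¹ * Classical.choose (bti_coset_invol_exists h (hgy y))) := by
          group
        rw [e]
        exact (nN M).mul_mem (Subgroup.mem_inf.mp y.2).1 (bti_M_le_N M hm)⟩
  have hψ : ∀ y : ↥(cC M z), (g * (y : G))⁻¹ * ((ψ y : G)) ∈ M := fun y =>
    (Classical.choose_spec (bti_coset_invol_exists h (hgy y))).2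
  have hinj : Function.Injective ψ := by
    intro y y' hyy
    have h1 := hψ y
    have h2 := hψ y'
    rw [hyy] at h1
    have hm : (y : G)⁻¹ * (y' : G) ∈ M ⊓ cC M z := by
      refine Subgroup.mem_inf.mpr ⟨?_, Subgroup.mul_mem _ (Subgroup.inv_mem _ y.2) y'.2⟩
      have e : (y : G)⁻¹ * (y' : G) =
          ((g * (y : G))⁻¹ * (ψ y' : G)) * ((g * (y' : G))⁻¹ * (ψ y' : G))⁻¹ := by group
      rw [e]
      exact M.mul_mem h1 (M.inv_mem h2)
    rw [bti_M_inf_C h, Subgroup.mem_bot] at hm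
    exact Subtype.ext (inv_mul_eq_one.mp hm)
  have hsurj : Function.Surjective ψ := by
    rintro ⟨t, ht2, htN⟩
    obtain ⟨x, hx, y, hy, hxy⟩ := bti_N_decomp h htN
    have hyN : y ∈ nN M := (Subgroup.mem_inf.mp hy).1
    refine ⟨⟨y, hy⟩, ?_⟩
    apply Subtype.ext
    show (ψ ⟨y, hy⟩ : G) = t
    have hmem : (g * y)⁻¹ * t ∈ M := by
      have e : (g * y)⁻¹ * t = y⁻¹ * (g⁻¹ * t) := by group
      rw [e, hxy]
      have e2 : y⁻¹ * (x * y) = y⁻¹ * x * y⁻¹⁻¹ := by group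
      rw [e2]
      exact bti_twoPt_conj_mem ((nN M).inv_mem hyN) hx
    exact bti_coset_invol_unique h (hgy ⟨y, hy⟩) (ψ ⟨y, hy⟩).2.1 ht2 (hψ ⟨y, hy⟩) hmem
  exact (Nat.card_congr (Equiv.ofBijective ψ ⟨hinj, hsurj⟩)).symm

/-- every `M`-orbit on `Ω ∖ {α}` contains exactly one fixed point of `z` -/
theorem bti_exists_conj_fix (h : Hyp M z) {g : G} (hg : g ∉ nN M) :
    ∃! x : M, z ∈ cj ((x : G) * g) (nN M) := by
  obtain ⟨u, huD, hu2, huniq⟩ := bti_twoPt_invol h hg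
  obtain ⟨huN, hug⟩ := Subgroup.mem_inf.mp huD
  obtain ⟨y, hy, huy⟩ := bti_N_invol h huN hu2
  have key : ∀ x : M, z ∈ cj ((x : G) * g) (nN M) ↔ (x : G)⁻¹ * z * x = u := by
    intro x
    rw [mem_cj]
    have e : ((x : G) * g)⁻¹ * z * ((x : G) * g) = g⁻¹ * ((x : G)⁻¹ * z * x) * g := by group
    rw [e]
    constructor
    · intro hx
      apply huniq
      · refine Subgroup.mem_inf.mpr ⟨?_, mem_cj.mpr hx⟩
        exact (nN M).mul_mem ((nN M).mul_mem ((nN M).inv_mem (bti_M_le_N M x.2)) h.hzN)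
          (bti_M_le_N M x.2)
      · rw [bti_twoPt_orderOf_conj']; exact h.hz
    · intro hx
      rw [hx]
      exact mem_cj.mp hug
  refine ⟨⟨y⁻¹, M.inv_mem hy⟩, (key _).mpr ?_, ?_⟩
  · show (y⁻¹)⁻¹ * z * y⁻¹ = u
    rw [inv_inv, huy]
  · intro x hx0
    have hx := (key x).mp hx0
    by_contra hne
    have hw : (x : G) * y ∈ M := M.mul_mem x.2 hy
    have hw1 : (x : G) * y ≠ 1 := by
      intro h1
      apply hne
      apply Subtype.ext
      show (x : G) = y⁻¹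
      exact eq_inv_of_mul_eq_one_left h1
    apply bti_no_invol_comm h hw hw1 h.hz
    -- z * (x y) = (x y) * z
    have e1 : z * ((x : G) * y) = (x : G) * ((x : G)⁻¹ * z * x) * y := by group
    rw [e1, hx, huy]
    group

end Cfsg.Agent.BTI
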