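import Mathlib
import Cfsg.Agent.BTI.TwoPt

set_option autoImplicit false
set_option linter.unusedSectionVars false

/-! S3043 package P4  (file `Cfsg/Agent/BTI/CentZ.lean`) -/

namespace Cfsg.Agent.BTI

open MulAction

variable {G : Type*} [Group G] [Finite G] {M : Subgroup G} {z : G}

/-! ### small helper lemmas -/

theorem bti_centZ_mem_iff {g : G} :
    g ∈ Subgroup.centralizer ({z} : Set G) ↔ g * z = z * g :=
  Subgroup.mem_centralizer_singleton_iff

theorem bti_centZ_z_mem_N (h : Hyp M z) : z ∈ nN M := h.hzN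

theorem bti_centZ_z_ne_one (h : Hyp M z) : z ≠ 1 := by
  intro h1
  have := h.hz
  rw [h1, orderOf_one] at this
  omega

/-- for `g` commuting with `z`, the point `gN` is fixed by `z` -/
theorem bti_centZ_z_mem_cj (h : Hyp M z) {g : G}
    (hg : g ∈ Subgroup.centralizer ({z} : Set G)) : z ∈ cj g (nN M) := by
  rw [mem_cj]
  have hgz : g * z = z * g := bti_centZ_mem_iff.mp hg
  have : g⁻¹ * z * g = z := by
    rw [mul_assoc, ← hgz, ← mul_assoc, inv_mul_cancel, one_mul]
  rw [this]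
  exact h.hzN

/-- `cj (g * n) N = cj g N` for `n ∈ N` -/
theorem bti_centZ_cj_mul (M : Subgroup G) {g n : G} (hn : n ∈ nN M) :
    cj (g * n) (nN M) = cj g (nN M) := by
  ext x
  rw [mem_cj, mem_cj]
  have e : (g * n)⁻¹ * x * (g * n) = n⁻¹ * (g⁻¹ * x * g) * n := by
    simp [mul_assoc]
  rw [e]
  constructor
  · intro hx
    have := (nN M).mul_mem ((nN M).mul_mem hn hx) ((nN M).inv_mem hn)
    simpa [mul_assoc] using this
  · intro hx
    exact (nN M).mul_mem ((nN M).mul_mem ((nN M).inv_mem hn) hx) hn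

/-- if `g⁻¹ t ∈ N` then `cj t N = cj g N` -/
theorem bti_centZ_cj_eq (M : Subgroup G) {g t : G} (htg : g⁻¹ * t ∈ nN M) :
    cj t (nN M) = cj g (nN M) := by
  have : t = g * (g⁻¹ * t) := by simp
  rw [this]
  exact bti_centZ_cj_mul M htg

/-- an involution is its own inverse -/
theorem bti_centZ_inv_of_invol {t : G} (ht : orderOf t = 2) : t⁻¹ = t := by
  have h2 : t ^ 2 = 1 := by rw [← ht]; exact pow_orderOf_eq_one t
  have : t * t = 1 := by rw [← pow_two]; exact h2
  exact inv_eq_of_mul_eq_one_left this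

theorem bti_centZ_sq_of_invol {t : G} (ht : orderOf t = 2) : t * t = 1 := by
  have h2 : t ^ 2 = 1 := by rw [← ht]; exact pow_orderOf_eq_one t
  rw [← pow_two]; exact h2

/-- conjugates of involutions are involutions -/
theorem bti_centZ_orderOf_conj (g u : G) : orderOf (g * u * g⁻¹) = orderOf u := by
  have : g * u * g⁻¹ = (MulAut.conj g) u := by simp [MulAut.conj_apply]
  rw [this]
  exact orderOf_injective (MulAut.conj g).toMonoidHom (MulAut.conj g).injective u

/-- for `g ∈ C_G(z) ∖ N` the two-point stabiliser `N ∩ gNg⁻¹` is `C` -/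
theorem bti_centZ_twoPt (h : Hyp M z) {g : G} (hg : g ∈ Subgroup.centralizer ({z} : Set G))
    (hgN : g ∉ nN M) : nN M ⊓ cj g (nN M) = cC M z := by
  obtain ⟨u, huD, hu2, huniq⟩ := bti_twoPt_invol h hgN
  have hzD : z ∈ nN M ⊓ cj g (nN M) := ⟨h.hzN, bti_centZ_z_mem_cj h hg⟩
  have hzu : z = u := huniq z hzD h.hz
  have hle : nN M ⊓ cj g (nN M) ≤ cC M z := by
    intro d hd
    refine ⟨hd.1, bti_centZ_mem_iff.mpr ?_⟩
    have hconj : d * z * d⁻¹ ∈ nN M ⊓ cj g (nN M) :=
      (nN M ⊓ cj g (nN M)).mul_mem ((nN M ⊓ cj g (nN M)).mul_mem hd hzD)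
        ((nN M ⊓ cj g (nN M)).inv_mem hd)
    have ho : orderOf (d * z * d⁻¹) = 2 := by rw [bti_centZ_orderOf_conj]; exact h.hz
    have := huniq _ hconj ho
    rw [← hzu] at this
    calc d * z = d * z * d⁻¹ * d := by simp
      _ = z * d := by rw [this]
  have hcard := bti_card_twoPt h hgN
  exact Subgroup.eq_of_le_of_card_ge hle (le_of_eq hcard.symm)

/-- every involution mapping `N` to a `z`-fixed point `gN ≠ N` centralises `z` -/
theorem bti_swap_centZ (h : Hyp M z) {g t : G} (hg : g ∉ nN M) (hzg : z ∈ cj g (nN M))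
    (ht : orderOf t = 2) (htg : g⁻¹ * t ∈ nN M) : t ∈ Subgroup.centralizer ({z} : Set G) := by
  have htN : t ∉ nN M := by
    intro htN
    apply hg
    have : g = t * (g⁻¹ * t)⁻¹ := by simp
    rw [this]
    exact (nN M).mul_mem htN ((nN M).inv_mem htg)
  have hcjt : cj t (nN M) = cj g (nN M) := bti_centZ_cj_eq M htg
  obtain ⟨u, huD, hu2, huniq⟩ := bti_twoPt_invol h htN
  have hzD : z ∈ nN M ⊓ cj t (nN M) := ⟨h.hzN, by rw [hcjt]; exact hzg⟩
  have hzu : z = u := huniq z hzD h.hz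
  have htinv : t⁻¹ = t := bti_centZ_inv_of_invol ht
  have htt : t * t = 1 := bti_centZ_sq_of_invol ht
  -- `t z t⁻¹ ∈ D`
  have hconj : t * z * t⁻¹ ∈ nN M ⊓ cj t (nN M) := by
    constructor
    · -- `t z t⁻¹ ∈ N` since `z ∈ cj t N` means `t⁻¹ z t ∈ N`, and `t⁻¹ = t`
      have := (mem_cj).mp hzD.2
      rw [htinv] at this ⊢
      exact this
    · refine mem_cj.mpr ?_
      have : t⁻¹ * (t * z * t⁻¹) * t = z := by simp [mul_assoc]
      rw [this]; exact h.hzN
  have ho : orderOf (t * z * t⁻¹) = 2 := by rw [bti_centZ_orderOf_conj]; exact h.hz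
  have := huniq _ hconj ho
  rw [← hzu] at this
  rw [bti_centZ_mem_iff]
  calc t * z = t * z * t⁻¹ * t := by simp
    _ = z * t := by rw [this]

theorem bti_centZ_not_mem_N {g : G} (hg : g ∈ Subgroup.centralizer ({z} : Set G))
    (hgC : g ∉ cC M z) : g ∉ nN M := fun hN => hgC ⟨hN, hg⟩

theorem bti_centZ_invol (h : Hyp M z) {g : G} (hg : g ∈ Subgroup.centralizer ({z} : Set G))
    (hgC : g ∉ cC M z) : orderOf g = 2 := by
  have hgN : g ∉ nN M := bti_centZ_not_mem_N hg hgC
  have hzg : z ∈ cj g (nN M) := bti_centZ_z_mem_cj h hg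
  have hcard := bti_swap_card h hgN
  let φ : {t : G // orderOf t = 2 ∧ g⁻¹ * t ∈ nN M} → cC M z := fun t =>
    ⟨g⁻¹ * t.1, ⟨t.2.2, (Subgroup.centralizer ({z} : Set G)).mul_mem
      ((Subgroup.centralizer ({z} : Set G)).inv_mem hg)
      (bti_swap_centZ h hgN hzg t.2.1 t.2.2)⟩⟩
  have hinj : Function.Injective φ := by
    intro t t' htt'
    have : g⁻¹ * t.1 = g⁻¹ * t'.1 := congrArg Subtype.val htt'
    exact Subtype.ext (mul_left_cancel this)
  have hbij : Function.Bijective φ :=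
    hinj.bijective_of_nat_card_le (le_of_eq hcard.symm)
  obtain ⟨t, ht⟩ := hbij.2 (1 : cC M z)
  have h1 : g⁻¹ * t.1 = 1 := congrArg Subtype.val ht
  have : t.1 = g := by
    have := congrArg (fun x => g * x) h1
    simpa using this
  rw [← this]
  exact t.2.1

theorem bti_centZ_inverts (h : Hyp M z) {g y : G} (hg : g ∈ Subgroup.centralizer ({z} : Set G))
    (hgC : g ∉ cC M z) (hy : y ∈ cC M z) : g * y * g⁻¹ = y⁻¹ := by
  have hgy : g * y ∈ Subgroup.centralizer ({z} : Set G) :=
    (Subgroup.centralizer ({z} : Set G)).mul_mem hg hy.2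
  have hgyC : g * y ∉ cC M z := by
    intro hc
    apply hgC
    have := (cC M z).mul_mem hc ((cC M z).inv_mem hy)
    simpa using this
  have h1 := bti_centZ_sq_of_invol (bti_centZ_invol h hg hgC)
  have h2 := bti_centZ_sq_of_invol (bti_centZ_invol h hgy hgyC)
  have hginv := bti_centZ_inv_of_invol (bti_centZ_invol h hg hgC)
  -- `g y g y = 1`
  rw [hginv]
  have h3 : g * y * g * y = 1 := by
    have : g * y * (g * y) = 1 := h2
    simpa [mul_assoc] using this
  exact eq_inv_of_mul_eq_one_left h3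

/-! ### counting fixed points -/

theorem bti_centZ_card_ne_add_one (X : Type*) [Finite X] (a : X) :
    Nat.card {x : X // x ≠ a} + 1 = Nat.card X := by
  classical
  have := Fintype.ofFinite X
  rw [Nat.card_eq_fintype_card, Nat.card_eq_fintype_card]
  have h1 : Fintype.card {x : X // x ≠ a} = Fintype.card X - Fintype.card {x : X // x = a} :=
    Fintype.card_subtype_compl (fun x => x = a)
  have h2 : Fintype.card {x : X // x = a} = 1 := Fintype.card_subtype_eq a
  have h3 : 0 < Fintype.card X := Fintype.card_pos_iff.mpr ⟨a⟩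
  omega

/-- the point `gN` equals the base point iff `g ∈ N` -/
theorem bti_centZ_mk_eq_one_iff (M : Subgroup G) (g : G) :
    ((g : G) : G ⧸ nN M) = ((1 : G) : G ⧸ nN M) ↔ g ∈ nN M := by
  rw [QuotientGroup.eq]
  constructor
  · intro hx
    have := (nN M).inv_mem hx
    simpa using this
  · intro hx
    have := (nN M).inv_mem hx
    simpa using this

theorem bti_centZ_smul_mk (M : Subgroup G) (x g : G) :
    x • ((g : G) : G ⧸ nN M) = ((x * g : G) : G ⧸ nN M) := rfl

/-- `z` fixes the base point -/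
theorem bti_centZ_z_fix_one (h : Hyp M z) :
    z • ((1 : G) : G ⧸ nN M) = ((1 : G) : G ⧸ nN M) := by
  rw [bti_centZ_smul_mk, bti_centZ_mk_eq_one_iff]
  simpa using h.hzN

theorem bti_index_eq (h : Hyp M z) :
    (nN M).index + Nat.card M = 1 + fZ M z * Nat.card M := by
  classical
  set α : G ⧸ nN M := ((1 : G) : G ⧸ nN M) with hα
  -- the map `M × (Fix z ∖ α) → Ω ∖ α`
  have hne : ∀ (x : M) (q : {q : G ⧸ nN M // z • q = q ∧ q ≠ α}),
      (x : G) • q.1 ≠ α := by
    intro x q hq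
    apply q.2.2
    have hxα : (x : G) • α = α := by
      rw [hα, bti_centZ_smul_mk, bti_centZ_mk_eq_one_iff]
      simpa using bti_M_le_N M x.2
    have : (x : G) • q.1 = (x : G) • α := by rw [hq, hxα]
    exact (MulAction.injective (x : G)) this
  let ψ : M × {q : G ⧸ nN M // z • q = q ∧ q ≠ α} → {q : G ⧸ nN M // q ≠ α} :=
    fun p => ⟨(p.1 : G) • p.2.1, hne p.1 p.2⟩
  have hψinj : Function.Injective ψ := by
    rintro ⟨x, ⟨q, hq1, hq2⟩⟩ ⟨x', ⟨q', hq1', hq2'⟩⟩ he
    have he' : (x : G) • q = (x' : G) • q' := congrArg Subtype.val he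
    obtain ⟨g, rfl⟩ := QuotientGroup.mk_surjective q
    have hgN : g ∉ nN M := fun hg => hq2 ((bti_centZ_mk_eq_one_iff M g).mpr hg)
    -- `q' = (x'⁻¹ x g) N`
    have hq' : q' = (((x'⁻¹ * x : M) : G) * g : G) := by
      have : q' = (x' : G)⁻¹ • ((x : G) • ((g : G) : G ⧸ nN M)) := by
        rw [he', inv_smul_smul]
      rw [this, bti_centZ_smul_mk, bti_centZ_smul_mk]
      simp [mul_assoc]
    obtain ⟨x0, hx0, huniq⟩ := bti_exists_conj_fix h hgN
    have e1 : (1 : M) = x0 := by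
      apply huniq
      have : z ∈ cj g (nN M) := (smul_mk_eq_iff M z g).mp hq1
      simpa using this
    have e2 : (x'⁻¹ * x : M) = x0 := by
      apply huniq
      have : z • (((((x'⁻¹ * x : M) : G) * g : G)) : G ⧸ nN M) =
          (((((x'⁻¹ * x : M) : G) * g : G)) : G ⧸ nN M) := by
        rw [← hq']; exact hq1'
      exact (smul_mk_eq_iff M z _).mp this
    have hxx : x = x' := by
      have : (x'⁻¹ * x : M) = 1 := by rw [e2, ← e1]
      have := congrArg (fun y => x' * y) this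
      simpa using this
    subst hxx
    have hqq : ((g : G) : G ⧸ nN M) = q' := (MulAction.injective (x : G)) he'
    subst hqq
    rfl
  have hψsurj : Function.Surjective ψ := by
    rintro ⟨a, ha⟩
    obtain ⟨g, rfl⟩ := QuotientGroup.mk_surjective a
    have hgN : g ∉ nN M := fun hg => ha ((bti_centZ_mk_eq_one_iff M g).mpr hg)
    obtain ⟨x0, hx0, -⟩ := bti_exists_conj_fix h hgN
    have hfix : z • ((((x0 : G) * g : G)) : G ⧸ nN M) = ((((x0 : G) * g : G)) : G ⧸ nN M) :=
      (smul_mk_eq_iff M z _).mpr hx0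
    have hne' : ((((x0 : G) * g : G)) : G ⧸ nN M) ≠ α := by
      intro hc
      apply hgN
      have h1 : (x0 : G) * g ∈ nN M := (bti_centZ_mk_eq_one_iff M _).mp hc
      have h2 : (x0 : G)⁻¹ ∈ nN M := (nN M).inv_mem (bti_M_le_N M x0.2)
      have := (nN M).mul_mem h2 h1
      simpa using this
    refine ⟨(x0⁻¹, ⟨_, hfix, hne'⟩), ?_⟩
    apply Subtype.ext
    show ((x0⁻¹ : M) : G) • ((((x0 : G) * g : G)) : G ⧸ nN M) = ((g : G) : G ⧸ nN M)
    rw [bti_centZ_smul_mk]
    simp
  have hcard : Nat.card (M × {q : G ⧸ nN M // z • q = q ∧ q ≠ α}) =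
      Nat.card {q : G ⧸ nN M // q ≠ α} :=
    Nat.card_congr (Equiv.ofBijective ψ ⟨hψinj, hψsurj⟩)
  rw [Nat.card_prod] at hcard
  -- cardinalities
  have hA : Nat.card {q : G ⧸ nN M // q ≠ α} + 1 = (nN M).index := by
    rw [bti_centZ_card_ne_add_one]; rfl
  have hB : Nat.card {q : G ⧸ nN M // z • q = q ∧ q ≠ α} + 1 = fZ M z := by
    have e : {q : G ⧸ nN M // z • q = q ∧ q ≠ α} ≃
        {t : {q : G ⧸ nN M // z • q = q} // t ≠ ⟨α, bti_centZ_z_fix_one h⟩} :=
      { toFun := fun q => ⟨⟨q.1, q.2.1⟩, fun hc => q.2.2 (congrArg Subtype.val hc)⟩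
        invFun := fun t => ⟨t.1.1, t.1.2, fun hc => t.2 (Subtype.ext hc)⟩
        left_inv := fun q => rfl
        right_inv := fun t => rfl }
    rw [Nat.card_congr e, bti_centZ_card_ne_add_one]
    rfl
  rw [← hA, ← hB]
  rw [← hcard]
  ring

theorem bti_two_le_f (h : Hyp M z) : 2 ≤ fZ M z := by
  have h1 := bti_index_eq h
  have h2 : 1 < (nN M).index := Subgroup.one_lt_index_of_ne_top (bti_N_ne_top h)
  have h3 := bti_three_le h
  by_contra hlt
  push Not at hlt
  interval_cases hf : fZ M z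
  · omega
  · omega

/-! ### the centraliser of `z` -/

/-- every `z`-fixed point `gN ≠ N` is `tN` for an involution `t ∈ C_G(z)` -/
theorem bti_centZ_exists_of_fix (h : Hyp M z) {g : G} (hg : g ∉ nN M)
    (hzg : z ∈ cj g (nN M)) :
    ∃ t, orderOf t = 2 ∧ t ∈ Subgroup.centralizer ({z} : Set G) ∧ g⁻¹ * t ∈ nN M := by
  obtain ⟨t, ht, htM⟩ := bti_coset_invol_exists h hg
  exact ⟨t, ht, bti_swap_centZ h hg hzg ht (bti_M_le_N M htM), bti_M_le_N M htM⟩

/-- `C_G(z)` is not contained in `C` -/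
theorem bti_centZ_exists (h : Hyp M z) :
    ∃ t, t ∈ Subgroup.centralizer ({z} : Set G) ∧ t ∉ cC M z := by
  have hne : ∃ g : G, g ∉ nN M := by
    by_contra hc
    push Not at hc
    exact bti_N_ne_top h (Subgroup.eq_top_iff' _ |>.mpr hc)
  obtain ⟨g, hg⟩ := hne
  obtain ⟨x0, hx0, -⟩ := bti_exists_conj_fix h hg
  have hg' : (x0 : G) * g ∉ nN M := by
    intro hc
    apply hg
    have h2 : (x0 : G)⁻¹ ∈ nN M := (nN M).inv_mem (bti_M_le_N M x0.2)
    have := (nN M).mul_mem h2 hc
    simpa using this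
  obtain ⟨t, ht, htH, htN⟩ := bti_centZ_exists_of_fix h hg' hx0
  refine ⟨t, htH, fun hc => hg' ?_⟩
  have : (x0 : G) * g = t * (((x0 : G) * g)⁻¹ * t)⁻¹ := by simp
  rw [this]
  exact (nN M).mul_mem hc.1 ((nN M).inv_mem htN)

theorem bti_C_comm (h : Hyp M z) {y y' : G} (hy : y ∈ cC M z) (hy' : y' ∈ cC M z) :
    y * y' = y' * y := by
  obtain ⟨g, hg, hgC⟩ := bti_centZ_exists h
  have h1 := bti_centZ_inverts h hg hgC hy
  have h2 := bti_centZ_inverts h hg hgC hy'
  have h3 := bti_centZ_inverts h hg hgC ((cC M z).mul_mem hy' hy)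
  have h4 : g * (y' * y) * g⁻¹ = (g * y' * g⁻¹) * (g * y * g⁻¹) := by simp [mul_assoc]
  rw [h4, h1, h2] at h3
  -- `y'⁻¹ y⁻¹ = (y' y)⁻¹`
  have h5 : (y * y')⁻¹ = (y' * y)⁻¹ := by rw [mul_inv_rev]; exact h3
  exact inv_injective h5

/-- the orbit of the base point under `C_G(z)` is the fixed point set of `z` -/
theorem bti_centZ_orbit (h : Hyp M z) (q : G ⧸ nN M) :
    q ∈ MulAction.orbit (Subgroup.centralizer ({z} : Set G)) (((1 : G)) : G ⧸ nN M) ↔
      z • q = q := by
  constructor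
  · rintro ⟨⟨t, ht⟩, rfl⟩
    show z • ((t : G) • (((1 : G)) : G ⧸ nN M)) = (t : G) • (((1 : G)) : G ⧸ nN M)
    rw [bti_centZ_smul_mk, mul_one]
    exact (smul_mk_eq_iff M z t).mpr (bti_centZ_z_mem_cj h ht)
  · intro hq
    obtain ⟨g, rfl⟩ := QuotientGroup.mk_surjective q
    by_cases hg : g ∈ nN M
    · refine ⟨⟨1, Subgroup.one_mem _⟩, ?_⟩
      show (1 : G) • (((1 : G)) : G ⧸ nN M) = ((g : G) : G ⧸ nN M)
      rw [one_smul]
      exact ((bti_centZ_mk_eq_one_iff M g).mpr hg).symm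
    · have hzg : z ∈ cj g (nN M) := (smul_mk_eq_iff M z g).mp hq
      obtain ⟨t, ht, htH, htN⟩ := bti_centZ_exists_of_fix h hg hzg
      refine ⟨⟨t, htH⟩, ?_⟩
      show (t : G) • (((1 : G)) : G ⧸ nN M) = ((g : G) : G ⧸ nN M)
      rw [bti_centZ_smul_mk, mul_one]
      exact (QuotientGroup.eq.mpr (by
        have := (nN M).inv_mem htN
        simpa using this))

theorem bti_card_centZ (h : Hyp M z) :
    Nat.card (Subgroup.centralizer ({z} : Set G)) = fZ M z * Nat.card (cC M z) := by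
  classical
  have h1 := Subgroup.card_eq_card_quotient_mul_card_subgroup
    (MulAction.stabilizer (Subgroup.centralizer ({z} : Set G)) (((1 : G)) : G ⧸ nN M))
  have h2 : Nat.card (Subgroup.centralizer ({z} : Set G) ⧸
      MulAction.stabilizer (Subgroup.centralizer ({z} : Set G)) (((1 : G)) : G ⧸ nN M)) =
        fZ M z := by
    rw [← Nat.card_congr
      (MulAction.orbitEquivQuotientStabilizer (Subgroup.centralizer ({z} : Set G))
        (((1 : G)) : G ⧸ nN M))]
    exact Nat.card_congr (Equiv.subtypeEquivRight (fun q => bti_centZ_orbit h q))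
  have hiff : ∀ t : Subgroup.centralizer ({z} : Set G),
      t ∈ MulAction.stabilizer (Subgroup.centralizer ({z} : Set G)) (((1 : G)) : G ⧸ nN M) ↔
        (t : G) ∈ nN M := by
    intro t
    rw [MulAction.mem_stabilizer_iff]
    show (t : G) • (((1 : G)) : G ⧸ nN M) = (((1 : G)) : G ⧸ nN M) ↔ _
    rw [bti_centZ_smul_mk, mul_one, bti_centZ_mk_eq_one_iff]
  have h3 : Nat.card (MulAction.stabilizer (Subgroup.centralizer ({z} : Set G))
      (((1 : G)) : G ⧸ nN M)) = Nat.card (cC M z) := by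
    refine Nat.card_congr
      { toFun := fun t => ⟨(t.1 : G), (hiff t.1).mp t.2, t.1.2⟩
        invFun := fun y => ⟨⟨y.1, y.2.2⟩, (hiff _).mpr y.2.1⟩
        left_inv := fun t => rfl
        right_inv := fun y => rfl }
  rw [h1, h2, h3]

/-- if `C_G(z)` has exponent two and `c = 2` then `f` is a power of two -/
theorem bti_centZ_f_pow_of_exp (h : Hyp M z) (hc : Nat.card (cC M z) = 2)
    (hexp : ∀ g ∈ Subgroup.centralizer ({z} : Set G), g * g = 1) :
    ∃ k : ℕ, fZ M z = 2 ^ k := by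
  have : Fact (Nat.Prime 2) := Nat.fact_prime_two
  have hp : IsPGroup 2 (Subgroup.centralizer ({z} : Set G)) := by
    intro g
    refine ⟨1, ?_⟩
    apply Subtype.ext
    have := hexp g.1 g.2
    simpa [pow_two] using this
  obtain ⟨j, hj⟩ := hp.exists_card_eq
  have hcard := bti_card_centZ h
  rw [hc, hj] at hcard
  have hf2 := bti_two_le_f h
  cases j with
  | zero => simp at hcard; omega
  | succ j' =>
    refine ⟨j', ?_⟩
    rw [pow_succ] at hcard
    omega

theorem bti_dichotomy (h : Hyp M z) :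
    fZ M z = 2 ∨ (4 ≤ fZ M z ∧ Nat.card (cC M z) = 2 ∧
      ∀ g ∈ Subgroup.centralizer ({z} : Set G), g * g = 1) := by
  classical
  by_cases hf : fZ M z = 2
  · exact Or.inl hf
  right
  have hf2 := bti_two_le_f h
  have hf3 : 3 ≤ fZ M z := by omega
  have hcardH := bti_card_centZ h
  have hcpos : 0 < Nat.card (cC M z) := Nat.card_pos
  obtain ⟨g₁, hg₁, hg₁C⟩ := bti_centZ_exists h
  -- a second coset
  have hex : ∃ g₂, g₂ ∈ Subgroup.centralizer ({z} : Set G) ∧ g₂ ∉ cC M z ∧
      g₁⁻¹ * g₂ ∉ cC M z := by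
    by_contra hc
    push Not at hc
    have hc' : ∀ t : Subgroup.centralizer ({z} : Set G), (t : G) ∉ cC M z →
        g₁⁻¹ * (t : G) ∈ cC M z := fun t ht => hc t.1 t.2 ht
    let ι : Subgroup.centralizer ({z} : Set G) → Bool × cC M z := fun t =>
      if ht : (t : G) ∈ cC M z then (false, ⟨t, ht⟩) else (true, ⟨g₁⁻¹ * t, hc' t ht⟩)
    have hι : Function.Injective ι := by
      intro t t' htt
      by_cases ht : (t : G) ∈ cC M z <;> by_cases ht' : (t' : G) ∈ cC M z
      · simp only [ι, dif_pos ht, dif_pos ht'] at htt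
        have := congrArg (fun p => (p.2 : G)) htt
        exact Subtype.ext this
      · simp only [ι, dif_pos ht, dif_neg ht'] at htt
        have := congrArg Prod.fst htt
        simp at this
      · simp only [ι, dif_neg ht, dif_pos ht'] at htt
        have := congrArg Prod.fst htt
        simp at this
      · simp only [ι, dif_neg ht, dif_neg ht'] at htt
        have : g₁⁻¹ * (t : G) = g₁⁻¹ * (t' : G) := congrArg (fun p => (p.2 : G)) htt
        exact Subtype.ext (mul_left_cancel this)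
    have hle := Nat.card_le_card_of_injective ι hι
    rw [Nat.card_prod, Nat.card_eq_fintype_card (α := Bool), Fintype.card_bool, hcardH] at hle
    nlinarith
  obtain ⟨g₂, hg₂, hg₂C, hg₁₂C⟩ := hex
  -- `g₁⁻¹ ∈ H ∖ C`
  have hg₁' : g₁⁻¹ ∈ Subgroup.centralizer ({z} : Set G) := Subgroup.inv_mem _ hg₁
  have hg₁'C : g₁⁻¹ ∉ cC M z := fun hc => hg₁C (by simpa using (cC M z).inv_mem hc)
  have hg₁₂ : g₁⁻¹ * g₂ ∈ Subgroup.centralizer ({z} : Set G) := Subgroup.mul_mem _ hg₁' hg₂
  -- every element of `C` is its own inverse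
  have hCinv : ∀ y ∈ cC M z, y⁻¹ = y := by
    intro y hy
    have e1 := bti_centZ_inverts h hg₁₂ hg₁₂C hy
    have e2 := bti_centZ_inverts h hg₂ hg₂C hy
    have e3 := bti_centZ_inverts h hg₁' hg₁'C ((cC M z).inv_mem hy)
    have e4 : g₁⁻¹ * g₂ * y * (g₁⁻¹ * g₂)⁻¹ = g₁⁻¹ * (g₂ * y * g₂⁻¹) * g₁⁻¹⁻¹ := by
      simp [mul_assoc]
    rw [e4, e2, e3, inv_inv] at e1
    exact e1.symm
  have hCsq : ∀ y ∈ cC M z, y * y = 1 := by
    intro y hy
    have := hCinv y hy
    calc y * y = y⁻¹ * y := by rw [this]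
      _ = 1 := inv_mul_cancel y
  have hCz : ∀ y ∈ cC M z, y ≠ 1 → y = z := by
    intro y hy hy1
    have : Fact (Nat.Prime 2) := Nat.fact_prime_two
    have ho : orderOf y = 2 := orderOf_eq_prime (by rw [pow_two]; exact hCsq y hy) hy1
    exact bti_C_invol h hy ho
  -- `c = 2`
  have hzC : z ∈ cC M z := ⟨h.hzN, bti_centZ_mem_iff.mpr rfl⟩
  have hc2 : Nat.card (cC M z) = 2 := by
    apply le_antisymm
    · let κ : cC M z → Bool := fun y => decide ((y : G) = 1)
      have hκ : Function.Injective κ := by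
        intro y y' hyy
        by_cases hy : (y : G) = 1 <;> by_cases hy' : (y' : G) = 1
        · exact Subtype.ext (hy.trans hy'.symm)
        · exfalso
          have h1 : κ y = true := decide_eq_true hy
          have h2 : κ y' = false := decide_eq_false hy'
          rw [hyy, h2] at h1
          exact Bool.false_ne_true h1
        · exfalso
          have h1 : κ y = false := decide_eq_false hy
          have h2 : κ y' = true := decide_eq_true hy'
          rw [hyy, h2] at h1
          exact Bool.false_ne_true h1.symm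
        · exact Subtype.ext ((hCz y y.2 hy).trans (hCz y' y'.2 hy').symm)
      have := Nat.card_le_card_of_injective κ hκ
      rwa [Nat.card_eq_fintype_card (α := Bool), Fintype.card_bool] at this
    · have hev := bti_even_C h
      obtain ⟨k, hk⟩ := hev
      omega
  have hexp : ∀ g ∈ Subgroup.centralizer ({z} : Set G), g * g = 1 := by
    intro g hg
    by_cases hgC : g ∈ cC M z
    · exact hCsq g hgC
    · exact bti_centZ_sq_of_invol (bti_centZ_invol h hg hgC)
  refine ⟨?_, hc2, hexp⟩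
  obtain ⟨k, hk⟩ := bti_centZ_f_pow_of_exp h hc2 hexp
  rw [hk] at hf3 ⊢
  have : 2 ≤ k := by
    by_contra hlt
    push Not at hlt
    interval_cases k <;> simp at hf3
  calc 4 = 2 ^ 2 := by norm_num
    _ ≤ 2 ^ k := Nat.pow_le_pow_right (by norm_num) this

theorem bti_f_pow (h : Hyp M z) : ∃ k : ℕ, fZ M z = 2 ^ k := by
  rcases bti_dichotomy h with hf | ⟨-, hc, hexp⟩
  · exact ⟨1, by rw [hf]; norm_num⟩
  · exact bti_centZ_f_pow_of_exp h hc hexp

end Cfsg.Agent.BTI
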