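import Mathlib
import Cfsg.Agent.BTI.CentZ
import Cfsg.Agent.Helper7.TwoOrbits

set_option autoImplicit false

/-! S3043 package P5a  (file `Cfsg/Agent/BTI/ASemi.lean`): case `f = 2`, the key lemma -/

namespace Cfsg.Agent.BTI

open MulAction

variable {G : Type*} [Group G] [Finite G] {M : Subgroup G} {z : G}

theorem bti_A_index (h : Hyp M z) (hf : fZ M z = 2) : (nN M).index = Nat.card M + 1 := by
  have h1 := bti_index_eq h
  rw [hf] at h1
  omega

theorem bti_A_exists_t (h : Hyp M z) (hf : fZ M z = 2) :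
    ∃ t : G, orderOf t = 2 ∧ t ∈ Subgroup.centralizer ({z} : Set G) ∧ t ∉ nN M := by
  obtain ⟨t, ht, htC⟩ := bti_centZ_exists h
  exact ⟨t, bti_centZ_invol h ht htC, ht, bti_centZ_not_mem_N ht htC⟩

/-- `M` is transitive on the points other than `α = N` (case `f = 2`). -/
theorem bti_asemi_trans (h : Hyp M z) (hf : fZ M z = 2) {t : G} (htN : t ∉ nN M) {g : G}
    (hg : g ∉ nN M) : ∃ a ∈ M, (a * t)⁻¹ * g ∈ nN M := by
  set α : G ⧸ nN M := ((1 : G) : G ⧸ nN M) with hα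
  have hne : ∀ a : M, (((a : G) * t : G) : G ⧸ nN M) ≠ α := by
    intro a hc
    rw [hα, bti_centZ_mk_eq_one_iff] at hc
    apply htN
    have := (nN M).mul_mem ((nN M).inv_mem (bti_M_le_N M a.2)) hc
    simpa using this
  let φ : M → {q : G ⧸ nN M // q ≠ α} := fun a => ⟨(((a : G) * t : G) : G ⧸ nN M), hne a⟩
  have hinj : Function.Injective φ := by
    intro a a' haa
    have h1 : (((a : G) * t : G) : G ⧸ nN M) = (((a' : G) * t : G) : G ⧸ nN M) :=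
      congrArg Subtype.val haa
    rw [QuotientGroup.eq] at h1
    have h2 : t⁻¹ * ((a : G)⁻¹ * (a' : G)) * t ∈ nN M := by
      have e : t⁻¹ * ((a : G)⁻¹ * (a' : G)) * t = ((a : G) * t)⁻¹ * ((a' : G) * t) := by group
      rw [e]
      exact h1
    have h3 : (a : G)⁻¹ * (a' : G) ∈ M ⊓ cj t (nN M) :=
      ⟨M.mul_mem (M.inv_mem a.2) a'.2, mem_cj.mpr h2⟩
    rw [bti_M_inf_cjN h htN, Subgroup.mem_bot] at h3
    apply Subtype.ext
    exact inv_mul_eq_one.mp h3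
  have hcard : Nat.card {q : G ⧸ nN M // q ≠ α} ≤ Nat.card M := by
    have h1 := bti_centZ_card_ne_add_one (G ⧸ nN M) α
    have h2 : Nat.card (G ⧸ nN M) = Nat.card M + 1 := bti_A_index h hf
    omega
  have hbij := hinj.bijective_of_nat_card_le hcard
  have hgα : ((g : G) : G ⧸ nN M) ≠ α := by
    intro hc
    rw [hα, bti_centZ_mk_eq_one_iff] at hc
    exact hg hc
  obtain ⟨a, ha⟩ := hbij.2 ⟨((g : G) : G ⧸ nN M), hgα⟩
  refine ⟨(a : G), a.2, ?_⟩
  have h1 : (((a : G) * t : G) : G ⧸ nN M) = ((g : G) : G ⧸ nN M) := congrArg Subtype.val ha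
  rw [QuotientGroup.eq] at h1
  exact h1

/-- unique normal form `a * t * y * b` on `G ∖ N` -/
theorem bti_A_normal_form (h : Hyp M z) (hf : fZ M z = 2) {t : G} (ht2 : orderOf t = 2)
    (ht : t ∈ Subgroup.centralizer ({z} : Set G)) (htN : t ∉ nN M) {g : G} (hg : g ∉ nN M) :
    ∃ a ∈ M, ∃ y ∈ cC M z, ∃ b ∈ M, g = a * t * y * b := by
  obtain ⟨a, ha, hu⟩ := bti_asemi_trans h hf htN hg
  obtain ⟨x, hx, y, hy, hxy⟩ := bti_N_decomp h ((nN M).inv_mem hu)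
  refine ⟨a, ha, y⁻¹, (cC M z).inv_mem hy, x⁻¹, M.inv_mem hx, ?_⟩
  have e : (a * t)⁻¹ * g = y⁻¹ * x⁻¹ := by
    have : (a * t)⁻¹ * g = (((a * t)⁻¹ * g)⁻¹)⁻¹ := by rw [inv_inv]
    rw [this, hxy]
    group
  calc g = a * t * ((a * t)⁻¹ * g) := by group
    _ = a * t * (y⁻¹ * x⁻¹) := by rw [e]
    _ = a * t * y⁻¹ * x⁻¹ := by group

theorem bti_A_normal_form_unique (h : Hyp M z) {t : G}
    (ht : t ∈ Subgroup.centralizer ({z} : Set G)) (htN : t ∉ nN M) {a y b a' y' b' : G}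
    (ha : a ∈ M) (hy : y ∈ cC M z) (hb : b ∈ M) (ha' : a' ∈ M) (hy' : y' ∈ cC M z) (hb' : b' ∈ M)
    (he : a * t * y * b = a' * t * y' * b') : a = a' ∧ y = y' ∧ b = b' := by
  have hyN : y ∈ nN M := (Subgroup.mem_inf.mp hy).1
  have hy'N : y' ∈ nN M := (Subgroup.mem_inf.mp hy').1
  have h1 : t⁻¹ * (a'⁻¹ * a) * t = y' * b' * b⁻¹ * y⁻¹ := by
    calc t⁻¹ * (a'⁻¹ * a) * t = t⁻¹ * a'⁻¹ * (a * t * y * b) * b⁻¹ * y⁻¹ := by group
      _ = t⁻¹ * a'⁻¹ * (a' * t * y' * b') * b⁻¹ * y⁻¹ := by rw [he]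
      _ = y' * b' * b⁻¹ * y⁻¹ := by group
  have h2 : t⁻¹ * (a'⁻¹ * a) * t ∈ nN M := by
    rw [h1]
    exact (nN M).mul_mem ((nN M).mul_mem ((nN M).mul_mem hy'N (bti_M_le_N M hb'))
      ((nN M).inv_mem (bti_M_le_N M hb))) ((nN M).inv_mem hyN)
  have h3 : a'⁻¹ * a ∈ M ⊓ cj t (nN M) :=
    ⟨M.mul_mem (M.inv_mem ha') ha, mem_cj.mpr h2⟩
  rw [bti_M_inf_cjN h htN, Subgroup.mem_bot] at h3
  have haa : a' = a := inv_mul_eq_one.mp h3
  rw [haa] at he
  have h4 : y * b = y' * b' := by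
    have h5 : a * t * (y * b) = a * t * (y' * b') := by
      calc a * t * (y * b) = a * t * y * b := by group
        _ = a * t * y' * b' := he
        _ = a * t * (y' * b') := by group
    exact mul_left_cancel h5
  have h6 : y'⁻¹ * y = b' * b⁻¹ := by
    calc y'⁻¹ * y = y'⁻¹ * (y * b) * b⁻¹ := by group
      _ = y'⁻¹ * (y' * b') * b⁻¹ := by rw [h4]
      _ = b' * b⁻¹ := by group
  have h7 : b' * b⁻¹ ∈ M ⊓ cC M z := by
    refine ⟨M.mul_mem hb' (M.inv_mem hb), ?_⟩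
    rw [← h6]
    exact (cC M z).mul_mem ((cC M z).inv_mem hy') hy
  rw [bti_M_inf_C h, Subgroup.mem_bot] at h7
  have hbb : b' = b := mul_inv_eq_one.mp h7
  rw [hbb] at h4
  exact ⟨haa.symm, mul_right_cancel h4, hbb.symm⟩

/-- KEY LEMMA: `C` acts semiregularly on `M ∖ {1}` -/
theorem bti_A_semireg (h : Hyp M z) (hf : fZ M z = 2) {w x : G} (hw : w ∈ cC M z) (hx : x ∈ M)
    (hx1 : x ≠ 1) (hwx : w * x = x * w) : w = 1 := by
  obtain ⟨t, ht2, ht, htN⟩ := bti_A_exists_t h hf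
  have htC : t ∉ cC M z := fun hc => htN (Subgroup.mem_inf.mp hc).1
  have htinv : t⁻¹ = t := bti_centZ_inv_of_invol ht2
  have hinvC : ∀ y ∈ cC M z, t * y * t⁻¹ = y⁻¹ := fun y hy => bti_centZ_inverts h ht htC hy
  -- `t * y = y⁻¹ * t` for `y ∈ C`
  have hty : ∀ y ∈ cC M z, t * y = y⁻¹ * t := by
    intro y hy
    have := hinvC y hy
    calc t * y = t * y * t⁻¹ * t := by group
      _ = y⁻¹ * t := by rw [this]
  -- `g := t * x * t ∉ N`
  have hgN : t * x * t ∉ nN M := by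
    intro hc
    have hxm : x ∈ M ⊓ cj t (nN M) := by
      refine ⟨hx, mem_cj.mpr ?_⟩
      rw [htinv]
      exact hc
    rw [bti_M_inf_cjN h htN, Subgroup.mem_bot] at hxm
    exact hx1 hxm
  obtain ⟨a, ha, y, hy, b, hb, hg⟩ := bti_A_normal_form h hf ht2 ht htN hgN
  -- conjugation by `z`
  have hzt : t * z = z * t := bti_centZ_mem_iff.mp ht
  have hzy : y * z = z * y := bti_centZ_mem_iff.mp (Subgroup.mem_inf.mp hy).2
  have hza : z * a * z⁻¹ = a⁻¹ := bti_z_inverts h ha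
  have hzb : z * b * z⁻¹ = b⁻¹ := bti_z_inverts h hb
  have hzx : z * x * z⁻¹ = x⁻¹ := bti_z_inverts h hx
  have hzt' : z * t * z⁻¹ = t := by rw [← hzt]; group
  have hzy' : z * y * z⁻¹ = y := by rw [← hzy]; group
  have e1 : z * (t * x * t) * z⁻¹ = (t * x * t)⁻¹ := by
    calc z * (t * x * t) * z⁻¹ = (z * t * z⁻¹) * (z * x * z⁻¹) * (z * t * z⁻¹) := by group
      _ = t * x⁻¹ * t := by rw [hzt', hzx]
      _ = t⁻¹ * x⁻¹ * t⁻¹ := by rw [htinv]
      _ = (t * x * t)⁻¹ := by group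
  have e2 : z * (a * t * y * b) * z⁻¹ = a⁻¹ * t * y * b⁻¹ := by
    calc z * (a * t * y * b) * z⁻¹
        = (z * a * z⁻¹) * (z * t * z⁻¹) * (z * y * z⁻¹) * (z * b * z⁻¹) := by group
      _ = a⁻¹ * t * y * b⁻¹ := by rw [hza, hzt', hzy', hzb]
  have e3 : a⁻¹ * t * y * b⁻¹ = b⁻¹ * t * y * a⁻¹ := by
    calc a⁻¹ * t * y * b⁻¹ = z * (a * t * y * b) * z⁻¹ := e2.symm
      _ = z * (t * x * t) * z⁻¹ := by rw [hg]
      _ = (t * x * t)⁻¹ := e1
      _ = (a * t * y * b)⁻¹ := by rw [hg]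
      _ = b⁻¹ * (y⁻¹ * t⁻¹) * a⁻¹ := by group
      _ = b⁻¹ * (y⁻¹ * t) * a⁻¹ := by rw [htinv]
      _ = b⁻¹ * (t * y) * a⁻¹ := by rw [hty y hy]
      _ = b⁻¹ * t * y * a⁻¹ := by group
  have hab : a = b := by
    have := (bti_A_normal_form_unique h ht htN (M.inv_mem ha) hy (M.inv_mem hb) (M.inv_mem hb) hy
      (M.inv_mem ha) e3).1
    exact inv_injective this
  rw [← hab] at hg
  -- now `t * x * t = a * t * y * a`; conjugate by `w`
  have hwN : w ∈ nN M := (Subgroup.mem_inf.mp hw).1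
  have ha' : w * a * w⁻¹ ∈ M := bti_twoPt_conj_mem hwN ha
  have hwt : w * t = t * w⁻¹ := by
    have := hty w⁻¹ ((cC M z).inv_mem hw)
    rw [inv_inv] at this
    exact this.symm
  have hwy : w * y = y * w := bti_C_comm h hw hy
  have hxw : w⁻¹ * x * w = x := by
    calc w⁻¹ * x * w = w⁻¹ * (x * w) := by group
      _ = w⁻¹ * (w * x) := by rw [hwx]
      _ = x := by group
  have e4 : w * (t * x * t) * w⁻¹ = t * x * t := by
    calc w * (t * x * t) * w⁻¹ = (w * t) * x * (t * w⁻¹) := by group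
      _ = (t * w⁻¹) * x * (w * t) := by rw [hwt]
      _ = t * (w⁻¹ * x * w) * t := by group
      _ = t * x * t := by rw [hxw]
  have e5 : w * (a * t * y * a) * w⁻¹ = (w * a * w⁻¹) * t * (w⁻¹ * w⁻¹ * y) * (w * a * w⁻¹) := by
    calc w * (a * t * y * a) * w⁻¹
        = (w * a * w⁻¹) * (w * t) * w⁻¹ * (w * y) * w⁻¹ * (w * a * w⁻¹) := by group
      _ = (w * a * w⁻¹) * (t * w⁻¹) * w⁻¹ * (y * w) * w⁻¹ * (w * a * w⁻¹) := by rw [hwt, hwy]
      _ = (w * a * w⁻¹) * t * (w⁻¹ * w⁻¹ * y) * (w * a * w⁻¹) := by group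
  have e6 : a * t * y * a = (w * a * w⁻¹) * t * (w⁻¹ * w⁻¹ * y) * (w * a * w⁻¹) := by
    calc a * t * y * a = t * x * t := hg.symm
      _ = w * (t * x * t) * w⁻¹ := e4.symm
      _ = w * (a * t * y * a) * w⁻¹ := by rw [hg]
      _ = _ := e5
  have hyC : w⁻¹ * w⁻¹ * y ∈ cC M z :=
    (cC M z).mul_mem ((cC M z).mul_mem ((cC M z).inv_mem hw) ((cC M z).inv_mem hw)) hy
  have hyy := (bti_A_normal_form_unique h ht htN ha hy ha ha' hyC ha' e6).2.1
  have hww : w * w = 1 := by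
    have h1 : w⁻¹ * w⁻¹ = 1 := by
      calc w⁻¹ * w⁻¹ = (w⁻¹ * w⁻¹ * y) * y⁻¹ := by group
        _ = y * y⁻¹ := by rw [← hyy]
        _ = 1 := by group
    have h2 : (w * w)⁻¹ = 1 := by rw [mul_inv_rev]; exact h1
    exact inv_eq_one.mp h2
  by_contra hw1
  have hord : orderOf w = 2 := by
    have hdvd : orderOf w ∣ 2 := orderOf_dvd_of_pow_eq_one (by rw [pow_two]; exact hww)
    rcases (Nat.dvd_prime Nat.prime_two).mp hdvd with h1 | h2
    · exact absurd (orderOf_eq_one_iff.mp h1) hw1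
    · exact h2
  have hwz : w = z := bti_C_invol h hw hord
  rw [hwz] at hwx
  exact bti_no_invol_comm h hx hx1 h.hz hwx

theorem bti_A_dvd (h : Hyp M z) (hf : fZ M z = 2) :
    Nat.card (cC M z) ∣ Nat.card M - 1 := by
  have hcard : ((M : Set G) \ {1}).ncard = Nat.card M - 1 := by
    rw [Set.ncard_sdiff_singleton_of_mem (Subgroup.one_mem _), ← Nat.card_coe_set_eq]
    rfl
  rw [← hcard]
  apply Cfsg.Agent.Helper7.TwoOrb.card_dvd_of_free_conj
  · intro w hw x hx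
    have hwN : w ∈ nN M := (Subgroup.mem_inf.mp hw).1
    refine ⟨bti_twoPt_conj_mem hwN hx.1, ?_⟩
    intro h1
    apply hx.2
    have h2 : w * x * w⁻¹ = 1 := h1
    have : x = w⁻¹ * (w * x * w⁻¹) * w := by group
    rw [this, h2]
    simp
  · intro w hw x hx hwx
    apply bti_A_semireg h hf hw hx.1 (fun h1 => hx.2 h1)
    calc w * x = (w * x * w⁻¹) * w := by group
      _ = x * w := by rw [hwx]

end Cfsg.Agent.BTI
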