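import Mathlib
import Cfsg.Agent.BTI.ASemi

set_option autoImplicit false
set_option linter.unusedSectionVars false

/-! S3043 package P5b  (file `Cfsg/Agent/BTI/APerm.lean`): case `f = 2`, the permutation group on `G ⧸ N` -/

namespace Cfsg.Agent.BTI

open MulAction

variable {G : Type*} [Group G] [Finite G] {M : Subgroup G} {z : G}

theorem bti_stab_one (M : Subgroup G) :
    stabilizer G ((1 : G) : G ⧸ nN M) = nN M :=
  MulAction.stabilizer_quotient (nN M)

theorem bti_stab_mk (M : Subgroup G) (g : G) :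
    stabilizer G ((g : G) : G ⧸ nN M) = cj g (nN M) := by
  ext x
  rw [MulAction.mem_stabilizer_iff]
  exact smul_mk_eq_iff M x g

theorem bti_A_card_Ω (h : Hyp M z) (hf : fZ M z = 2) :
    Nat.card (G ⧸ nN M) = Nat.card M + 1 := by
  rw [← Subgroup.index_eq_card]
  exact bti_A_index h hf

theorem bti_A_stab_ab (h : Hyp M z) (hf : fZ M z = 2) {t : G}
    (ht : t ∈ Subgroup.centralizer ({z} : Set G)) (htN : t ∉ nN M) :
    stabilizer G ((1 : G) : G ⧸ nN M) ⊓ stabilizer G ((t : G) : G ⧸ nN M) = cC M z := by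
  rw [bti_stab_one, bti_stab_mk]
  exact bti_centZ_twoPt h ht htN

/-- `M` fixes the base point -/
theorem bti_aperm_M_fix (M : Subgroup G) {u : G} (hu : u ∈ M) :
    u • ((1 : G) : G ⧸ nN M) = ((1 : G) : G ⧸ nN M) := by
  have : u ∈ stabilizer G ((1 : G) : G ⧸ nN M) := by
    rw [bti_stab_one]; exact bti_M_le_N M hu
  exact MulAction.mem_stabilizer_iff.mp this

/-- `M` acts semiregularly off the base point -/
theorem bti_aperm_semireg (h : Hyp M z) {y : G ⧸ nN M} (hy : y ≠ ((1 : G) : G ⧸ nN M))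
    {u : G} (hu : u ∈ M) (huy : u • y = y) : u = 1 := by
  obtain ⟨g, rfl⟩ := QuotientGroup.mk_surjective y
  have hgN : g ∉ nN M := fun hg => hy ((bti_centZ_mk_eq_one_iff M g).mpr hg)
  have h1 : u ∈ cj g (nN M) := (smul_mk_eq_iff M u g).mp huy
  have h2 : u ∈ M ⊓ cj g (nN M) := ⟨hu, h1⟩
  rw [bti_M_inf_cjN h hgN] at h2
  exact (Subgroup.mem_bot).mp h2

/-- `M` is regular on `Ω ∖ {α}` -/
theorem bti_A_regular (h : Hyp M z) (hf : fZ M z = 2) :
    ∀ y y' : G ⧸ nN M, y ≠ ((1 : G) : G ⧸ nN M) → y' ≠ ((1 : G) : G ⧸ nN M) →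
      ∃! u : M, (u : G) • y = y' := by
  classical
  intro y y' hy hy'
  have hne : ∀ u : M, (u : G) • y ≠ ((1 : G) : G ⧸ nN M) := by
    intro u hc
    apply hy
    have h1 : (u : G) • y = (u : G) • ((1 : G) : G ⧸ nN M) := by
      rw [hc, bti_aperm_M_fix M u.2]
    exact MulAction.injective (u : G) h1
  let φ : M → {q : G ⧸ nN M // q ≠ ((1 : G) : G ⧸ nN M)} := fun u => ⟨(u : G) • y, hne u⟩
  have hφ : Function.Injective φ := by
    intro u u' huu
    have e : (u : G) • y = (u' : G) • y := congrArg Subtype.val huu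
    have e2 : ((u'⁻¹ * u : M) : G) • y = y := by
      show ((u' : G)⁻¹ * (u : G)) • y = y
      rw [mul_smul, e, inv_smul_smul]
    have e3 := bti_aperm_semireg h hy (u'⁻¹ * u).2 e2
    have e4 : (u'⁻¹ * u : M) = 1 := Subtype.ext e3
    have := congrArg (fun v => u' * v) e4
    simpa using this
  have hcard : Nat.card {q : G ⧸ nN M // q ≠ ((1 : G) : G ⧸ nN M)} ≤ Nat.card M := by
    have h1 := bti_centZ_card_ne_add_one (G ⧸ nN M) ((1 : G) : G ⧸ nN M)
    have h2 := bti_A_card_Ω h hf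
    omega
  have hbij := hφ.bijective_of_nat_card_le hcard
  obtain ⟨u, hu⟩ := hbij.2 ⟨y', hy'⟩
  refine ⟨u, congrArg Subtype.val hu, ?_⟩
  intro u' hu'
  apply hφ
  apply Subtype.ext
  show (u' : G) • y = (u : G) • y
  rw [hu']
  exact (congrArg Subtype.val hu).symm

theorem bti_A_two_trans (h : Hyp M z) (hf : fZ M z = 2) :
    IsMultiplyPretransitive G (G ⧸ nN M) 2 := by
  rw [MulAction.is_two_pretransitive_iff]
  intro a b c d hab hcd
  obtain ⟨g₁, hg₁⟩ := MulAction.exists_smul_eq G a ((1 : G) : G ⧸ nN M)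
  obtain ⟨g₂, hg₂⟩ := MulAction.exists_smul_eq G c ((1 : G) : G ⧸ nN M)
  have hb : g₁ • b ≠ ((1 : G) : G ⧸ nN M) := by
    intro hc
    apply hab
    have : g₁ • a = g₁ • b := by rw [hg₁, hc]
    exact MulAction.injective g₁ this
  have hd : g₂ • d ≠ ((1 : G) : G ⧸ nN M) := by
    intro hc
    apply hcd
    have : g₂ • c = g₂ • d := by rw [hg₂, hc]
    exact MulAction.injective g₂ this
  obtain ⟨u, hu, -⟩ := bti_A_regular h hf _ _ hb hd
  refine ⟨g₂⁻¹ * (u : G) * g₁, ?_, ?_⟩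
  · rw [mul_smul, mul_smul, hg₁, bti_aperm_M_fix M u.2, ← hg₂, inv_smul_smul]
  · rw [mul_smul, mul_smul, hu, inv_smul_smul]

theorem bti_A_three_fixed (h : Hyp M z) (hf : fZ M z = 2) :
    ∀ g : G, ∀ a b c : G ⧸ nN M, a ≠ b → b ≠ c → a ≠ c → g • a = a → g • b = b → g • c = c →
      g = 1 := by
  intro g a b c hab hbc hac hga hgb hgc
  obtain ⟨t, ht2, htH, htN⟩ := bti_A_exists_t h hf
  have htα : ((t : G) : G ⧸ nN M) ≠ ((1 : G) : G ⧸ nN M) :=
    fun hc => htN ((bti_centZ_mk_eq_one_iff M t).mp hc)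
  obtain ⟨k, hka, hkb⟩ := (MulAction.is_two_pretransitive_iff.mp (bti_A_two_trans h hf))
    hab htα.symm
  -- `g' = k g k⁻¹` fixes `α`, `tN` and `k c`
  have hfix : ∀ q : G ⧸ nN M, g • q = q → (k * g * k⁻¹) • (k • q) = k • q := by
    intro q hq
    rw [mul_smul, mul_smul, inv_smul_smul, hq]
  have h1 := hfix a hga
  have h2 := hfix b hgb
  have h3 := hfix c hgc
  rw [hka] at h1
  rw [hkb] at h2
  have hg'C : k * g * k⁻¹ ∈ cC M z := by
    rw [← bti_A_stab_ab h hf htH htN]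
    exact ⟨MulAction.mem_stabilizer_iff.mpr h1, MulAction.mem_stabilizer_iff.mpr h2⟩
  have hc1 : k • c ≠ ((1 : G) : G ⧸ nN M) := by
    intro hc
    apply hac
    have : k • a = k • c := by rw [hka, hc]
    exact MulAction.injective k this
  have hc2 : k • c ≠ ((t : G) : G ⧸ nN M) := by
    intro hc
    apply hbc
    have : k • b = k • c := by rw [hkb, hc]
    exact MulAction.injective k this
  obtain ⟨x, hx, -⟩ := bti_A_regular h hf _ _ htα hc1
  have hx1 : (x : G) ≠ 1 := by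
    intro hx1
    apply hc2
    rw [← hx, hx1, one_smul]
  set g' := k * g * k⁻¹ with hg'
  -- `x⁻¹ g' x` fixes `tN`
  have h4 : ((x : G)⁻¹ * g' * (x : G)) • ((t : G) : G ⧸ nN M) = ((t : G) : G ⧸ nN M) := by
    rw [mul_smul, mul_smul, hx, h3, ← hx, inv_smul_smul]
  have hN : (x : G)⁻¹ * g' * (x : G) ∈ nN M :=
    (nN M).mul_mem ((nN M).mul_mem ((nN M).inv_mem (bti_M_le_N M x.2)) hg'C.1)
      (bti_M_le_N M x.2)
  have hC' : (x : G)⁻¹ * g' * (x : G) ∈ cC M z := by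
    rw [← bti_A_stab_ab h hf htH htN]
    refine ⟨?_, MulAction.mem_stabilizer_iff.mpr h4⟩
    rw [bti_stab_one]; exact hN
  -- the commutator lies in `M ⊓ C = ⊥`
  have hM : g'⁻¹ * (x : G)⁻¹ * g' ∈ M := by
    have hn : g'⁻¹ ∈ nN M := (nN M).inv_mem hg'C.1
    have := (Subgroup.mem_normalizer_iff.mp hn (x : G)⁻¹).mp (M.inv_mem x.2)
    simpa using this
  have hcomm : g'⁻¹ * (x : G)⁻¹ * g' * (x : G) ∈ M ⊓ cC M z := by
    refine ⟨M.mul_mem hM x.2, ?_⟩
    have : g'⁻¹ * (x : G)⁻¹ * g' * (x : G) = g'⁻¹ * ((x : G)⁻¹ * g' * (x : G)) := by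
      simp [mul_assoc]
    rw [this]
    exact (cC M z).mul_mem ((cC M z).inv_mem hg'C) hC'
  rw [bti_M_inf_C h] at hcomm
  have hcomm1 : g'⁻¹ * (x : G)⁻¹ * g' * (x : G) = 1 := Subgroup.mem_bot.mp hcomm
  have hwx : g' * (x : G) = (x : G) * g' := by
    have := congrArg (fun v => (x : G) * g' * v) hcomm1
    simpa [mul_assoc] using this
  have hg'1 : g' = 1 := bti_A_semireg h hf hg'C x.2 hx1 hwx
  have : k * g * k⁻¹ = 1 := hg'1
  have := congrArg (fun v => k⁻¹ * v * k) this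
  simpa [mul_assoc] using this

theorem bti_A_faithful (h : Hyp M z) (hf : fZ M z = 2) : FaithfulSMul G (G ⧸ nN M) := by
  classical
  have := Fintype.ofFinite (G ⧸ nN M)
  have hcard : 2 < Fintype.card (G ⧸ nN M) := by
    rw [← Nat.card_eq_fintype_card, bti_A_card_Ω h hf]
    have := bti_three_le h
    omega
  obtain ⟨a, b, c, hab, hac, hbc⟩ := Fintype.two_lt_card_iff.mp hcard
  refine ⟨fun {g₁ g₂} hg => ?_⟩
  have hfix : ∀ q : G ⧸ nN M, (g₂⁻¹ * g₁) • q = q := by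
    intro q
    rw [mul_smul, hg q, inv_smul_smul]
  have := bti_A_three_fixed h hf (g₂⁻¹ * g₁) a b c hab hbc hac (hfix a) (hfix b) (hfix c)
  have := congrArg (fun v => g₂ * v) this
  simpa using this

end Cfsg.Agent.BTI
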