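import Mathlib
import Cfsg.Agent.BTI.APerm
import Cfsg.Agent.Helper2.ZasPSLF
import Cfsg.Agent.Helper2.MobiusC

set_option autoImplicit false

/-! S3043 package P6  (file `Cfsg/Agent/BTI/APgl.lean`): case `f = 2`, `c = m - 1` -/

namespace Cfsg.Agent.BTI

open MulAction

variable {G : Type*} [Group G] [Finite G] {M : Subgroup G} {z : G}

/-- `M` fixes the base point. -/
theorem bti_apgl_M_fix (M : Subgroup G) {n : G} (hn : n ∈ M) :
    n • ((1 : G) : G ⧸ nN M) = ((1 : G) : G ⧸ nN M) := by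
  rw [bti_centZ_smul_mk, bti_centZ_mk_eq_one_iff, mul_one]
  exact bti_M_le_N M hn

/-- `N` fixes the base point. -/
theorem bti_apgl_N_fix (M : Subgroup G) {n : G} (hn : n ∈ nN M) :
    n • ((1 : G) : G ⧸ nN M) = ((1 : G) : G ⧸ nN M) := by
  rw [bti_centZ_smul_mk, bti_centZ_mk_eq_one_iff, mul_one]
  exact hn

/-- `M` acts freely off the base point. -/
theorem bti_apgl_M_free (h : Hyp M z) (hf : fZ M z = 2) {n : G} (hn : n ∈ M) {y : G ⧸ nN M}
    (hy : y ≠ ((1 : G) : G ⧸ nN M)) (hny : n • y = y) : n = 1 := by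
  obtain ⟨u, -, hu⟩ := bti_A_regular h hf y y hy hy
  have h1 := hu ⟨n, hn⟩ hny
  have h2 := hu 1 (by show ((1 : M) : G) • y = y; rw [Subgroup.coe_one, one_smul])
  have h3 : (⟨n, hn⟩ : M) = 1 := h1.trans h2.symm
  exact congrArg Subtype.val h3

/-- `M` is transitive off the base point. -/
theorem bti_apgl_M_trans (h : Hyp M z) (hf : fZ M z = 2) {y y' : G ⧸ nN M}
    (hy : y ≠ ((1 : G) : G ⧸ nN M)) (hy' : y' ≠ ((1 : G) : G ⧸ nN M)) :
    ∃ n ∈ M, n • y = y' := by
  obtain ⟨u, hu, -⟩ := bti_A_regular h hf y y' hy hy'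
  exact ⟨u, u.2, hu⟩

/-- `C` is transitive on `M ∖ {1}` by conjugation when `c = m - 1`. -/
theorem bti_apgl_C_trans (h : Hyp M z) (hf : fZ M z = 2)
    (hc : Nat.card (cC M z) = Nat.card M - 1) {x₀ x : G} (hx₀ : x₀ ∈ M) (hx₀1 : x₀ ≠ 1)
    (hx : x ∈ M) (hx1 : x ≠ 1) : ∃ w ∈ cC M z, w * x₀ * w⁻¹ = x := by
  have hnorm : ∀ w ∈ cC M z, ∀ y ∈ M, w * y * w⁻¹ ∈ M := fun w hw y hy =>
    (Subgroup.mem_normalizer_iff.mp (bti_basic_C_le_N M z hw) y).mp hy
  let φ : cC M z → {y : M // y ≠ 1} := fun w =>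
    ⟨⟨(w : G) * x₀ * (w : G)⁻¹, hnorm w w.2 x₀ hx₀⟩, by
      intro e
      have e' : (w : G) * x₀ * (w : G)⁻¹ = 1 := congrArg Subtype.val e
      apply hx₀1
      have : x₀ = (w : G)⁻¹ * ((w : G) * x₀ * (w : G)⁻¹) * (w : G) := by group
      rw [this, e']
      group⟩
  have hφ : Function.Injective φ := by
    intro w w' e
    have e' : (w : G) * x₀ * (w : G)⁻¹ = (w' : G) * x₀ * (w' : G)⁻¹ :=
      congrArg (fun y : {y : M // y ≠ 1} => ((y : M) : G)) e
    have h1 : ((w' : G)⁻¹ * (w : G)) * x₀ = x₀ * ((w' : G)⁻¹ * (w : G)) := by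
      have : x₀ = (w' : G)⁻¹ * ((w : G) * x₀ * (w : G)⁻¹) * (w' : G) := by rw [e']; group
      calc ((w' : G)⁻¹ * (w : G)) * x₀ = ((w' : G)⁻¹ * ((w : G) * x₀ * (w : G)⁻¹) * (w' : G)) *
            ((w' : G)⁻¹ * (w : G)) := by group
        _ = x₀ * ((w' : G)⁻¹ * (w : G)) := by rw [← this]
    have h2 := bti_A_semireg h hf ((cC M z).mul_mem ((cC M z).inv_mem w'.2) w.2) hx₀ hx₀1 h1
    apply Subtype.ext
    exact (inv_mul_eq_one.mp h2).symm
  have hcard : Nat.card {y : M // y ≠ 1} ≤ Nat.card (cC M z) := by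
    have := bti_centZ_card_ne_add_one ↥M 1
    omega
  obtain ⟨w, hw⟩ := (hφ.bijective_of_nat_card_le hcard).2 ⟨⟨x, hx⟩, by
    intro e
    exact hx1 (congrArg Subtype.val e)⟩
  refine ⟨w, w.2, ?_⟩
  exact congrArg (fun y : {y : M // y ≠ 1} => ((y : M) : G)) hw

omit [Finite G] in
/-- powers of a translation -/
theorem bti_apgl_pow_smul {K Ω : Type*} [Field K] [MulAction G Ω] (pt : K → Ω) (n : G) (β : K)
    (hn : ∀ x, n • pt x = pt (x + β)) (j : ℕ) (x : K) : n ^ j • pt x = pt (x + j • β) := by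
  induction j generalizing x with
  | zero => simp
  | succ j ih =>
    rw [pow_succ, mul_smul, hn, ih, succ_nsmul]
    congr 1
    ring

theorem bti_A_pgl (h : Hyp M z) (hf : fZ M z = 2)
    (hc : Nat.card (cC M z) = Nat.card M - 1) :
    ∃ (F : Type) (_ : Field F) (_ : Fintype F) (p : ℕ) (_ : Fact p.Prime) (_ : CharP F p),
      Fintype.card F = Nat.card M ∧ Cfsg.IsElementaryAbelian p M ∧
      Nonempty (G ≃* (GL (Fin 2) F ⧸ Subgroup.center (GL (Fin 2) F))) := by
  classical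
  set a : G ⧸ nN M := ((1 : G) : G ⧸ nN M) with ha
  obtain ⟨t, ht2, htz, htN⟩ := bti_A_exists_t h hf
  set b : G ⧸ nN M := ((t : G) : G ⧸ nN M) with hb
  have hab : a ≠ b := by
    intro e
    exact htN ((bti_centZ_mk_eq_one_iff M t).mp e.symm)
  have hta : t • a = b := by rw [ha, bti_centZ_smul_mk, mul_one]
  have htb : t • b = a := by rw [hb, bti_centZ_smul_mk, bti_basic_sq_of_order ht2]
  have hstab : stabilizer G a ⊓ stabilizer G b = cC M z := bti_A_stab_ab h hf htz htN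
  have hmemC : ∀ w : G, w ∈ cC M z ↔ w • a = a ∧ w • b = b := by
    intro w
    rw [← hstab, Subgroup.mem_inf, mem_stabilizer_iff, mem_stabilizer_iff]
  have hMa : ∀ n ∈ M, n • a = a := fun n hn => bti_apgl_M_fix M hn
  have hMfree : ∀ n ∈ M, ∀ y : G ⧸ nN M, y ≠ a → n • y = y → n = 1 :=
    fun n hn y hy hny => bti_apgl_M_free h hf hn hy hny
  have hMtrans : ∀ y y' : G ⧸ nN M, y ≠ a → y' ≠ a → ∃ n ∈ M, n • y = y' :=
    fun y y' hy hy' => bti_apgl_M_trans h hf hy hy'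
  have hnorm : ∀ w ∈ cC M z, ∀ x ∈ M, w * x * w⁻¹ ∈ M := fun w hw y hy =>
    (Subgroup.mem_normalizer_iff.mp (bti_basic_C_le_N M z hw) y).mp hy
  have hMcomm : ∀ n ∈ M, ∀ m ∈ M, n * m = m * n := fun n hn m hm => bti_M_comm h hn hm
  have hCcomm : ∀ w ∈ cC M z, ∀ k ∈ cC M z, w * k = k * w := fun w hw k hk => bti_C_comm h hw hk
  have hCa : ∀ w ∈ cC M z, w • a = a := fun w hw => ((hmemC w).1 hw).1
  have hCb : ∀ w ∈ cC M z, w • b = b := fun w hw => ((hmemC w).1 hw).2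
  obtain ⟨x₀, hx₀, hx₀1⟩ := bti_basic_exists_ne_one h
  have hirr : ∀ M' : Subgroup G, M' ≤ M → (∀ w ∈ cC M z, ∀ m ∈ M', w * m * w⁻¹ ∈ M') →
      M' = ⊥ ∨ M' = M := by
    intro M' hM'M hinv
    by_cases hM' : M' = ⊥
    · exact Or.inl hM'
    right
    obtain ⟨x, hx1⟩ := (Subgroup.ne_bot_iff_exists_ne_one).mp hM'
    have hx1' : (x : G) ≠ 1 := fun e => hx1 (Subtype.ext e)
    apply le_antisymm hM'M
    intro y hy
    by_cases hy1 : y = 1
    · rw [hy1]; exact M'.one_mem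
    obtain ⟨w, hw, hwx⟩ := bti_apgl_C_trans h hf hc (hM'M x.2) hx1' hy hy1
    rw [← hwx]
    exact hinv w hw x x.2
  set c₀ : G ⧸ nN M := x₀ • b with hc₀
  have hc₀a : c₀ ≠ a := by
    intro e
    apply hab
    have h1 : x₀ • b = x₀ • a := by rw [← hc₀, e, hMa x₀ hx₀]
    exact (smul_left_cancel _ h1).symm
  have hc₀b : c₀ ≠ b := fun e => hx₀1 (hMfree x₀ hx₀ b (Ne.symm hab) e)
  obtain ⟨K, instF, instFin, pt, χ, hptinj, hptsurj, hpta, hpt0, hpt1, hT, hMul, hKcard⟩ :=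
    Cfsg.Agent.Helper2.ZasPSL.exists_coordinates M (cC M z) hMa hMfree hMtrans hnorm hMcomm
      hCcomm hCb hirr hab hc₀a hc₀b
  have hfaith : ∀ g : G, (∀ y : G ⧸ nN M, g • y = y) → g = 1 := fun g hg =>
    bti_A_three_fixed h hf g a b c₀ hab (Ne.symm hc₀b) (Ne.symm hc₀a) (hg a) (hg b) (hg c₀)
  have heq_of : ∀ g₁ g₂ : G, g₁ • a = a → g₂ • a = a → (∀ x, g₁ • pt x = g₂ • pt x) →
      g₁ = g₂ := by
    intro g₁ g₂ h1 h2 h12
    have e : g₂⁻¹ * g₁ = 1 := by
      apply hfaith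
      intro y
      rw [mul_smul, inv_smul_eq_iff]
      by_cases hy : y = a
      · rw [hy, h1, h2]
      · obtain ⟨x, rfl⟩ := hptsurj y hy
        exact h12 x
    exact (inv_mul_eq_one.mp e).symm
  have hpt1b : pt 1 ≠ b := by rw [hpt1]; exact hc₀b
  have hptb : ∀ x : K, x ≠ 0 → pt x ≠ b := by
    intro x hx e
    rw [← hpt0] at e
    exact hx (hptinj e)
  -- properties of `χ`
  have hχ0 : ∀ k : ↥(cC M z), χ k ≠ 0 := by
    intro k e
    have h1 := hMul k 1
    rw [e, zero_mul, hpt0] at h1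
    have h2 : (k : G) • pt 1 = (k : G) • b := by rw [h1, hCb k k.2]
    exact hpt1b (smul_left_cancel _ h2)
  have hχmul : ∀ k k' : ↥(cC M z), χ (k * k') = χ k * χ k' := by
    intro k k'
    have h1 := hMul (k * k') 1
    rw [Subgroup.coe_mul, mul_smul, hMul k' 1, hMul k] at h1
    have h2 := hptinj h1
    rw [mul_one, mul_one] at h2
    exact h2.symm
  have hχ1 : χ 1 = 1 := by
    have h1 := hMul 1 1
    rw [Subgroup.coe_one, one_smul] at h1
    have h2 := hptinj h1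
    rw [mul_one] at h2
    exact h2.symm
  have hχinv : ∀ k : ↥(cC M z), χ k⁻¹ = (χ k)⁻¹ := by
    intro k
    have h1 := hχmul k⁻¹ k
    rw [inv_mul_cancel, hχ1] at h1
    exact eq_inv_of_mul_eq_one_left h1.symm
  have hχinj : Function.Injective χ := by
    intro k k' e
    apply Subtype.ext
    exact heq_of k k' (hCa k k.2) (hCa k' k'.2) (fun x => by rw [hMul, hMul, e])
  have hχsurj : ∀ x : K, x ≠ 0 → ∃ k : ↥(cC M z), χ k = x := by
    intro x hx
    let ψ : ↥(cC M z) → {x : K // x ≠ 0} := fun k => ⟨χ k, hχ0 k⟩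
    have hψ : Function.Injective ψ := fun k k' e => hχinj (congrArg Subtype.val e)
    have hcard : Nat.card {x : K // x ≠ 0} ≤ Nat.card ↥(cC M z) := by
      have h1 := bti_centZ_card_ne_add_one K 0
      rw [Nat.card_eq_fintype_card (α := K), hKcard] at h1
      omega
    obtain ⟨k, hk⟩ := (hψ.bijective_of_nat_card_le hcard).2 ⟨x, hx⟩
    exact ⟨k, congrArg Subtype.val hk⟩
  -- the involution `s` swapping `a`, `b` and fixing `pt 1`
  have htpt1a : t • pt 1 ≠ a := by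
    intro e
    rw [← htb] at e
    exact hpt1b (smul_left_cancel _ e)
  obtain ⟨x₁, hx₁⟩ := hptsurj _ htpt1a
  have hx₁0 : x₁ ≠ 0 := by
    intro e
    rw [e, hpt0, ← hta] at hx₁
    exact hpta 1 (smul_left_cancel _ hx₁.symm)
  obtain ⟨k₁, hk₁⟩ := hχsurj x₁⁻¹ (inv_ne_zero hx₁0)
  set s : G := (k₁ : G) * t with hs
  have hsa : s • a = b := by rw [hs, mul_smul, hta, hCb k₁ k₁.2]
  have hsb : s • b = a := by rw [hs, mul_smul, htb, hCa k₁ k₁.2]
  have hsc : s • pt 1 = pt 1 := by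
    rw [hs, mul_smul, ← hx₁, hMul, hk₁, inv_mul_cancel₀ hx₁0]
  have hsz : s ∈ Subgroup.centralizer ({z} : Set G) :=
    (Subgroup.centralizer ({z} : Set G)).mul_mem k₁.2.2 htz
  have hsC : s ∉ cC M z := by
    intro hsC
    apply htN
    have h1 : t = (k₁ : G)⁻¹ * s := by rw [hs]; group
    rw [h1]
    exact (nN M).mul_mem ((nN M).inv_mem (bti_basic_C_le_N M z k₁.2)) (bti_basic_C_le_N M z hsC)
  have hs2 : s * s = 1 := bti_basic_sq_of_order (bti_centZ_invol h hsz hsC)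
  have hsinv : s⁻¹ = s := inv_eq_of_mul_eq_one_right hs2
  have hsconj : ∀ y ∈ cC M z, s * y * s⁻¹ = y⁻¹ := fun y hy => bti_centZ_inverts h hsz hsC hy
  have hσ : ∀ x : K, x ≠ 0 → s • pt x = pt x⁻¹ := by
    intro x hx
    obtain ⟨k, hk⟩ := hχsurj x hx
    have e1 : s • pt (χ k * 1) = (s * (k : G) * s⁻¹) • (s • pt 1) := by
      rw [← hMul, ← mul_smul, ← mul_smul]
      congr 1
      group
    rw [hsconj k k.2, mul_one, hsc, hk] at e1
    have e2 := hMul k⁻¹ 1
    rw [Subgroup.coe_inv] at e2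
    rw [e2, hχinv, mul_one, hk] at e1
    exact e1
  -- the characteristic
  have hfinK : Finite K := Finite.of_fintype K
  obtain ⟨p, hpc⟩ := CharP.exists K
  have hp : p.Prime := CharP.char_is_prime K p
  have hMp : ∀ n ∈ M, n ^ p = 1 := by
    intro n hn
    have hnb : n • b ≠ a := by
      intro e
      rw [← hMa n hn] at e
      exact hab (smul_left_cancel _ e).symm
    obtain ⟨β, hβ⟩ := hptsurj _ hnb
    obtain ⟨n', hn'M, hn'⟩ := hT β
    have h1 : n'⁻¹ * n = 1 := by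
      apply hMfree _ (M.mul_mem (M.inv_mem hn'M) hn) b (Ne.symm hab)
      rw [mul_smul, ← hβ, inv_smul_eq_iff, ← hpt0, hn', zero_add]
    have h2 : n = n' := (inv_mul_eq_one.mp h1).symm
    apply hfaith
    intro y
    by_cases hy : y = a
    · rw [hy]; exact hMa _ (M.pow_mem hn p)
    · obtain ⟨x, rfl⟩ := hptsurj y hy
      rw [h2, bti_apgl_pow_smul pt n' β hn' p x, nsmul_eq_mul, CharP.cast_eq_zero, zero_mul,
        add_zero]
  refine ⟨K, instF, instFin, p, ⟨hp⟩, hpc, hKcard, ⟨?_, hMp⟩, ?_⟩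
  · rw [isMulCommutative_iff]
    intro x y
    exact Subtype.ext (hMcomm x x.2 y y.2)
  -- the projective line
  let fΩ : OnePoint K → G ⧸ nN M := fun w => OnePoint.elim w a pt
  have hfinf : fΩ OnePoint.infty = a := rfl
  have hfc : ∀ x : K, fΩ (x : OnePoint K) = pt x := fun x => rfl
  have hfbij : Function.Bijective fΩ := by
    constructor
    · intro w w' hww
      cases w with
      | infty =>
        cases w' with
        | infty => rfl
        | coe y =>
          rw [hfinf, hfc] at hww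
          exact absurd hww.symm (hpta y)
      | coe x =>
        cases w' with
        | infty =>
          rw [hfinf, hfc] at hww
          exact absurd hww (hpta x)
        | coe y =>
          rw [hfc, hfc] at hww
          rw [hptinj hww]
    · intro y
      by_cases hy : y = a
      · exact ⟨OnePoint.infty, hy.symm⟩
      · obtain ⟨x, hx⟩ := hptsurj y hy
        exact ⟨(x : OnePoint K), hx⟩
  let e : (G ⧸ nN M) ≃ OnePoint K := (Equiv.ofBijective fΩ hfbij).symm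
  have he1 : e.symm OnePoint.infty = a := rfl
  have he2 : ∀ x : K, e.symm (x : OnePoint K) = pt x := fun x => rfl
  have hmain : Nonempty (G ≃* Matrix.ProjGenLinGroup (Fin 2) K) := by
    apply Cfsg.Agent.Helper2.Mobius.nonempty_mulEquiv_pgl e hfaith
    · intro g' hg'
      rw [he1] at hg'
      have hne : g' • b ≠ a := by
        intro e'
        rw [← hg'] at e'
        exact hab (smul_left_cancel _ e').symm
      obtain ⟨β, hβ⟩ := hptsurj _ hne
      obtain ⟨n, hnM, hn⟩ := hT β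
      have hna : n • a = a := hMa n hnM
      have h1a : (n⁻¹ * g') • a = a := by
        rw [mul_smul, hg', inv_smul_eq_iff, hna]
      have h1b : (n⁻¹ * g') • b = b := by
        rw [mul_smul, ← hβ, inv_smul_eq_iff, ← hpt0, hn, zero_add]
      have hmem : n⁻¹ * g' ∈ cC M z := (hmemC _).2 ⟨h1a, h1b⟩
      refine ⟨χ ⟨_, hmem⟩, β, hχ0 _, fun x => ?_⟩
      rw [he2, he2, ← hn, ← hMul ⟨_, hmem⟩ x, ← mul_smul]
      congr 1
      group
    · refine ⟨s, ?_, ?_, ?_⟩
      · rw [he1, he2, hpt0]; exact hsa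
      · rw [he1, he2, hpt0]; exact hsb
      · intro x hx
        rw [he2, he2, hσ x hx]
    · intro p' q' r' hpq hpr hqr
      have h2t := bti_A_two_trans h hf
      rw [MulAction.is_two_pretransitive_iff] at h2t
      obtain ⟨g₀, hg₀a, hg₀b⟩ := h2t hab hpq
      have hr1 : g₀⁻¹ • r' ≠ a := by
        intro e'
        rw [inv_smul_eq_iff, hg₀a] at e'
        exact hpr e'.symm
      have hr2 : g₀⁻¹ • r' ≠ b := by
        intro e'
        rw [inv_smul_eq_iff, hg₀b] at e'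
        exact hqr e'.symm
      obtain ⟨x, hx⟩ := hptsurj _ hr1
      have hx0 : x ≠ 0 := by
        intro e'
        rw [e', hpt0] at hx
        exact hr2 hx.symm
      obtain ⟨k, hk⟩ := hχsurj x hx0
      refine ⟨g₀ * (k : G), ?_, ?_, ?_⟩
      · rw [he1, mul_smul, hCa k k.2, hg₀a]
      · rw [he2, hpt0, mul_smul, hCb k k.2, hg₀b]
      · rw [he2, mul_smul, hMul, hk, mul_one, hx, smul_inv_smul]
  exact hmain

end Cfsg.Agent.BTI
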