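import Mathlib
import Cfsg.Agent.BTI.APerm

set_option autoImplicit false

/-! S3043 package P5c  (file `Cfsg/Agent/BTI/AZas.lean`): case `f = 2`, `m ≥ 5`: a Zassenhaus group -/

namespace Cfsg.Agent.BTI

open MulAction

variable {G : Type*} [Group G] [Finite G] {M : Subgroup G} {z : G}

omit [Finite G] in
/-- `z` fixes the base point `N` of `G ⧸ N` -/
theorem bti_azas_z_fix (hzN : z ∈ nN M) :
    z • ((1 : G) : G ⧸ nN M) = ((1 : G) : G ⧸ nN M) := by
  rw [smul_mk_eq_iff, mem_cj]
  simpa using hzN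

/-- a group of exponent two is commutative (local copy) -/
theorem bti_azas_comm_of_sq {H : Type*} [Group H] (hsq : ∀ a : H, a * a = 1) (a b : H) :
    a * b = b * a := by
  have h1 : a⁻¹ = a := inv_eq_of_mul_eq_one_right (hsq a)
  have h2 : b⁻¹ = b := inv_eq_of_mul_eq_one_right (hsq b)
  have h3 : (a * b)⁻¹ = a * b := inv_eq_of_mul_eq_one_right (hsq (a * b))
  calc a * b = (a * b)⁻¹ := h3.symm
    _ = b⁻¹ * a⁻¹ := mul_inv_rev a b
    _ = b * a := by rw [h1, h2]

theorem bti_A_no_regular (h : Hyp M z) (hf : fZ M z = 2) (hm : 5 ≤ Nat.card M) :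
    ∀ R : Subgroup G, R.Normal → IsPretransitive R (G ⧸ nN M) →
      ∃ a : G ⧸ nN M, stabilizer R a ≠ ⊥ := by
  classical
  intro R hRn hRt
  by_contra hcon
  have hstab : ∀ a : G ⧸ nN M, stabilizer R a = ⊥ := by
    intro a
    by_contra hne
    exact hcon ⟨a, hne⟩
  have hz2 : z * z = 1 := bti_z_sq h
  have hzinv : z⁻¹ = z := bti_z_inv h
  have hzfix : z • ((1 : G) : G ⧸ nN M) = ((1 : G) : G ⧸ nN M) := bti_azas_z_fix h.hzN
  -- the orbit map `R → Ω`
  let e : R → G ⧸ nN M := fun r => r • ((1 : G) : G ⧸ nN M)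
  have he_inj : Function.Injective e := by
    intro r s hrs
    have h1 : (s⁻¹ * r) • ((1 : G) : G ⧸ nN M) = ((1 : G) : G ⧸ nN M) := by
      rw [mul_smul]
      show s⁻¹ • e r = _
      rw [hrs]
      show s⁻¹ • (s • ((1 : G) : G ⧸ nN M)) = _
      rw [inv_smul_smul]
    have h2 : s⁻¹ * r ∈ stabilizer R ((1 : G) : G ⧸ nN M) := h1
    rw [hstab, Subgroup.mem_bot] at h2
    calc r = s * (s⁻¹ * r) := by group
      _ = s := by rw [h2, mul_one]
  have he_surj : Function.Surjective e := fun q =>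
    MulAction.exists_smul_eq R ((1 : G) : G ⧸ nN M) q
  have hcardR : Nat.card R = Nat.card M + 1 := by
    rw [Nat.card_congr (Equiv.ofBijective e ⟨he_inj, he_surj⟩)]
    exact bti_A_card_Ω h hf
  have : Finite R := inferInstance
  -- an involution in R
  have heven : 2 ∣ Nat.card R := by
    rw [hcardR]
    obtain ⟨k, hk⟩ := bti_odd_M h
    exact ⟨k + 1, by omega⟩
  have : Fact (Nat.Prime 2) := ⟨Nat.prime_two⟩
  obtain ⟨r₀, hr₀⟩ := exists_prime_orderOf_dvd_card' (G := R) 2 heven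
  have hr₀G : orderOf (r₀ : G) = 2 := by rw [Subgroup.orderOf_coe]; exact hr₀
  have hr₀1 : (r₀ : G) ≠ 1 := by
    intro h1
    rw [h1, orderOf_one] at hr₀G
    omega
  have hr₀sq : (r₀ : G) * (r₀ : G) = 1 := by
    have := pow_orderOf_eq_one (r₀ : G)
    rwa [hr₀G, pow_two] at this
  -- the M-conjugates of r₀
  let c : M → {r : R // r ≠ 1} := fun x =>
    ⟨⟨(x : G) * (r₀ : G) * (x : G)⁻¹, hRn.conj_mem _ r₀.2 _⟩, by
      intro h1
      have h2 : (x : G) * (r₀ : G) * (x : G)⁻¹ = 1 := congrArg Subtype.val h1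
      apply hr₀1
      calc (r₀ : G) = (x : G)⁻¹ * ((x : G) * (r₀ : G) * (x : G)⁻¹) * (x : G) := by group
        _ = 1 := by rw [h2]; group⟩
  have hc_inj : Function.Injective c := by
    intro x y hxy
    have h1 : (x : G) * (r₀ : G) * (x : G)⁻¹ = (y : G) * (r₀ : G) * (y : G)⁻¹ := by
      have := congrArg (fun t : {r : R // r ≠ 1} => ((t : R) : G)) hxy
      exact this
    by_contra hne
    have hw : ((y : G)⁻¹ * (x : G)) ∈ M := M.mul_mem (M.inv_mem y.2) x.2
    have hw1 : (y : G)⁻¹ * (x : G) ≠ 1 := by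
      intro h2
      apply hne
      apply Subtype.ext
      calc (x : G) = (y : G) * ((y : G)⁻¹ * (x : G)) := by group
        _ = (y : G) := by rw [h2, mul_one]
    apply bti_no_invol_comm h hw hw1 hr₀G
    -- r₀ * w = w * r₀
    have h3 : ((y : G)⁻¹ * (x : G)) * (r₀ : G) * ((y : G)⁻¹ * (x : G))⁻¹ = (r₀ : G) := by
      calc ((y : G)⁻¹ * (x : G)) * (r₀ : G) * ((y : G)⁻¹ * (x : G))⁻¹
          = (y : G)⁻¹ * ((x : G) * (r₀ : G) * (x : G)⁻¹) * (y : G) := by group
        _ = (y : G)⁻¹ * ((y : G) * (r₀ : G) * (y : G)⁻¹) * (y : G) := by rw [h1]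
        _ = (r₀ : G) := by group
    calc (r₀ : G) * ((y : G)⁻¹ * (x : G))
        = (((y : G)⁻¹ * (x : G)) * (r₀ : G) * ((y : G)⁻¹ * (x : G))⁻¹) * ((y : G)⁻¹ * (x : G)) := by
          rw [h3]
      _ = ((y : G)⁻¹ * (x : G)) * (r₀ : G) := by group
  have hcard_ne : Nat.card {r : R // r ≠ 1} = Nat.card M := by
    have h1 : Nat.card {r : R // r ≠ 1} + 1 = Nat.card R := by
      have h2 : Nat.card ({r : R // r = 1} ⊕ {r : R // r ≠ 1}) = Nat.card R :=
        Nat.card_congr (Equiv.sumCompl (fun r : R => r = 1))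
      rw [Nat.card_sum] at h2
      have h3 : Nat.card {r : R // r = 1} = 1 := by
        rw [Nat.card_eq_one_iff_unique]
        exact ⟨⟨fun a b => Subtype.ext (a.2.trans b.2.symm)⟩, ⟨⟨1, rfl⟩⟩⟩
      omega
    omega
  have hc_surj : Function.Surjective c := by
    have hbij : Function.Bijective c := by
      rw [Nat.bijective_iff_injective_and_card]
      exact ⟨hc_inj, hcard_ne.symm⟩
    exact hbij.2
  -- exponent two
  have hsq : ∀ r : R, r * r = 1 := by
    intro r
    by_cases hr1 : r = 1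
    · rw [hr1, mul_one]
    · obtain ⟨x, hx⟩ := hc_surj ⟨r, hr1⟩
      have hx' : (x : G) * (r₀ : G) * (x : G)⁻¹ = (r : G) := by
        have := congrArg (fun t : {r : R // r ≠ 1} => ((t : R) : G)) hx
        exact this
      apply Subtype.ext
      show (r : G) * (r : G) = 1
      rw [← hx']
      calc (x : G) * (r₀ : G) * (x : G)⁻¹ * ((x : G) * (r₀ : G) * (x : G)⁻¹)
          = (x : G) * ((r₀ : G) * (r₀ : G)) * (x : G)⁻¹ := by group
        _ = 1 := by rw [hr₀sq]; group
  have hcomm : ∀ a b : R, a * b = b * a := bti_azas_comm_of_sq hsq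
  -- conjugation by z on R
  let cz : R → R := fun r => ⟨z * (r : G) * z⁻¹, hRn.conj_mem _ r.2 _⟩
  have hcz_mul : ∀ a b : R, cz (a * b) = cz a * cz b := by
    intro a b
    apply Subtype.ext
    show z * ((a : G) * (b : G)) * z⁻¹ = (z * (a : G) * z⁻¹) * (z * (b : G) * z⁻¹)
    group
  have hcz_cz : ∀ a : R, cz (cz a) = a := by
    intro a
    apply Subtype.ext
    show z * (z * (a : G) * z⁻¹) * z⁻¹ = (a : G)
    rw [hzinv]
    calc z * (z * (a : G) * z) * z = (z * z) * (a : G) * (z * z) := by group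
      _ = (a : G) := by rw [hz2]; group
  let φ : R →* R := MonoidHom.mk' (fun r => r * cz r) (by
    intro a b
    show a * b * cz (a * b) = a * cz a * (b * cz b)
    rw [hcz_mul]
    calc a * b * (cz a * cz b) = a * (b * cz a) * cz b := by group
      _ = a * (cz a * b) * cz b := by rw [hcomm b (cz a)]
      _ = a * cz a * (b * cz b) := by group)
  -- fixed points of z in R inject into the fixed points of z on Ω
  have hfix_e : ∀ r : R, cz r = r → z • e r = e r := by
    intro r hr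
    show z • ((r : G) • ((1 : G) : G ⧸ nN M)) = (r : G) • ((1 : G) : G ⧸ nN M)
    have h1 : z * (r : G) = (r : G) * z := by
      have h2 : z * (r : G) * z⁻¹ = (r : G) := congrArg Subtype.val hr
      calc z * (r : G) = (z * (r : G) * z⁻¹) * z := by group
        _ = (r : G) * z := by rw [h2]
    rw [smul_smul, h1, mul_smul, hzfix]
  have hcard_fix : ∀ S : Subgroup R, (∀ r ∈ S, cz r = r) → Nat.card S ≤ 2 := by
    intro S hS
    have hfz : Nat.card {q : G ⧸ nN M // z • q = q} = 2 := hf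
    rw [← hfz]
    apply Nat.card_le_card_of_injective
      (fun s : S => (⟨e s.1, hfix_e s.1 (hS s.1 s.2)⟩ : {q : G ⧸ nN M // z • q = q}))
    intro a b hab
    have h1 : e a.1 = e b.1 := congrArg Subtype.val hab
    exact Subtype.ext (he_inj h1)
  have hker : Nat.card φ.ker ≤ 2 := by
    apply hcard_fix
    intro r hr
    rw [MonoidHom.mem_ker] at hr
    have h1 : r * cz r = 1 := hr
    have h2 : cz r = r⁻¹ := eq_inv_of_mul_eq_one_right h1
    have h3 : r⁻¹ = r := inv_eq_of_mul_eq_one_right (hsq r)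
    rw [h2, h3]
  have hrange : Nat.card φ.range ≤ 2 := by
    apply hcard_fix
    rintro _ ⟨r, rfl⟩
    show cz (r * cz r) = r * cz r
    rw [hcz_mul, hcz_cz, hcomm]
  have hprod : Nat.card φ.ker * Nat.card φ.range = Nat.card R := by
    rw [← Subgroup.index_ker]
    exact Subgroup.card_mul_index φ.ker
  have hle : Nat.card R ≤ 4 := by
    rw [← hprod]
    calc Nat.card φ.ker * Nat.card φ.range ≤ 2 * 2 := Nat.mul_le_mul hker hrange
      _ = 4 := by norm_num
  omega

theorem bti_A_zassenhaus (h : Hyp M z) (hf : fZ M z = 2) (hm : 5 ≤ Nat.card M) :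
    Cfsg.IsZassenhausGroup G (G ⧸ nN M) := by
  refine ⟨bti_A_faithful h hf, bti_A_two_trans h hf, bti_A_three_fixed h hf, ?_,
    bti_A_no_regular h hf hm⟩
  have hfz : Nat.card {q : G ⧸ nN M // z • q = q} = 2 := hf
  obtain ⟨a, b, hab, -⟩ := Nat.card_eq_two_iff.1 hfz
  refine ⟨z, ?_, a.1, b.1, ?_, a.2, b.2⟩
  · intro h1
    have := h.hz
    rw [h1, orderOf_one] at this
    omega
  · intro h1
    exact hab (Subtype.ext h1)

end Cfsg.Agent.BTI
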