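import Mathlib
import Cfsg.Agent.BTI.AZas
import Cfsg.Agent.S0742
import Cfsg.Agent.S0741
import Cfsg.Agent.S0738

set_option autoImplicit false

/-! S3043 package P7  (file `Cfsg/Agent/BTI/APsl.lean`): case `f = 2`, `c ≠ m - 1` -/

namespace Cfsg.Agent.BTI

open MulAction

variable {G : Type*} [Group G] [Finite G] {M : Subgroup G} {z : G}

/-- `c ∣ m - 1`, `c ≠ m - 1`, `m ≥ 3` give `2 c ≤ m - 1` -/
theorem bti_apsl_two_mul_le {c m : ℕ} (hdvd : c ∣ m - 1) (hne : c ≠ m - 1) (hm : 3 ≤ m) :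
    2 * c ≤ m - 1 := by
  obtain ⟨k, hk⟩ := hdvd
  have hk0 : k ≠ 0 := by
    intro h0
    rw [h0, mul_zero] at hk
    omega
  have hk1 : k ≠ 1 := by
    intro h1
    rw [h1, mul_one] at hk
    exact hne hk.symm
  have hk2 : 2 ≤ k := by omega
  calc 2 * c = c * 2 := by ring
    _ ≤ c * k := Nat.mul_le_mul_left c hk2
    _ = m - 1 := hk.symm

/-- equal prime powers with positive exponent have the same base -/
theorem bti_apsl_prime_eq {p p' f f' : ℕ} (hp : p.Prime) (hp' : p'.Prime) (hf' : f' ≠ 0)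
    (he : p' ^ f' = p ^ f) : p' = p := by
  have h1 : p' ∣ p ^ f := by
    rw [← he]
    exact dvd_pow_self p' hf'
  have h2 : p' ∣ p := hp'.dvd_of_dvd_pow h1
  exact (Nat.prime_dvd_prime_iff_eq hp' hp).mp h2

theorem bti_A_psl (h : Hyp M z) (hf : fZ M z = 2)
    (hc : Nat.card (cC M z) ≠ Nat.card M - 1) :
    ∃ (F : Type) (_ : Field F) (_ : Fintype F) (p : ℕ) (_ : Fact p.Prime) (_ : CharP F p),
      Fintype.card F = Nat.card M ∧ Cfsg.IsElementaryAbelian p M ∧
      Fintype.card F % 4 = 1 ∧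
      Nonempty (G ≃* Matrix.ProjectiveSpecialLinearGroup (Fin 2) F) := by
  classical
  have hm3 : 3 ≤ Nat.card M := bti_three_le h
  have hdvd : Nat.card (cC M z) ∣ Nat.card M - 1 := bti_A_dvd h hf
  have hev : Even (Nat.card (cC M z)) := bti_even_C h
  have h2c : 2 * Nat.card (cC M z) ≤ Nat.card M - 1 := bti_apsl_two_mul_le hdvd hc hm3
  have hcpos : 0 < Nat.card (cC M z) := Nat.card_pos
  have hc2 : 2 ≤ Nat.card (cC M z) := by
    obtain ⟨k, hk⟩ := hev
    omega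
  have hm5 : 5 ≤ Nat.card M := by omega
  have hZ : Cfsg.IsZassenhausGroup G (G ⧸ nN M) := bti_A_zassenhaus h hf hm5
  haveI : Fintype (G ⧸ nN M) := Fintype.ofFinite _
  have hcardΩ : Fintype.card (G ⧸ nN M) = Nat.card M + 1 := by
    rw [← Nat.card_eq_fintype_card]
    exact bti_A_card_Ω h hf
  obtain ⟨t, ht2, htz, htN⟩ := bti_A_exists_t h hf
  have hab : ((1 : G) : G ⧸ nN M) ≠ ((t : G) : G ⧸ nN M) := by
    intro he
    rw [QuotientGroup.eq] at he
    apply htN
    have : t = (1 : G)⁻¹ * t := by group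
    rw [this]
    exact he
  have hstab : stabilizer G ((1 : G) : G ⧸ nN M) ⊓ stabilizer G ((t : G) : G ⧸ nN M) = cC M z :=
    bti_A_stab_ab h hf htz htN
  have hcardstab : Nat.card ↥(stabilizer G ((1 : G) : G ⧸ nN M) ⊓
      stabilizer G ((t : G) : G ⧸ nN M)) = Nat.card (cC M z) := by
    rw [hstab]
  have heven' : Even (Nat.card ↥(stabilizer G ((1 : G) : G ⧸ nN M) ⊓
      stabilizer G ((t : G) : G ⧸ nN M))) := by
    rw [hcardstab]; exact hev
  have hd : 2 * Nat.card ↥(stabilizer G ((1 : G) : G ⧸ nN M) ⊓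
      stabilizer G ((t : G) : G ⧸ nN M)) ≤ Fintype.card (G ⧸ nN M) - 2 := by
    rw [hcardstab, hcardΩ]
    omega
  obtain ⟨p, f, K, instK, instKfin, hp, hp2, hKcard, hΩcard, ⟨φ⟩⟩ :=
    Cfsg.Agent.S0742.result hZ hab heven' hd
  have hd' := Cfsg.Agent.S0741.result hZ hab heven'
  rw [hcardstab, hcardΩ] at hd'
  -- `m = p ^ f`
  have hmpf : Nat.card M = p ^ f := by omega
  have h2ceq : 2 * Nat.card (cC M z) = Nat.card M - 1 := by omega
  -- `M` elementary abelian
  have hd'' : Fintype.card (G ⧸ nN M) - 2 ≤ 2 * Nat.card ↥(stabilizer G ((1 : G) : G ⧸ nN M) ⊓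
      stabilizer G ((t : G) : G ⧸ nN M)) := by
    rw [hcardstab, hcardΩ]
    omega
  have hMle : M ≤ stabilizer G ((1 : G) : G ⧸ nN M) := by
    rw [bti_stab_one M]
    exact bti_M_le_N M
  have hMn : (M.subgroupOf (stabilizer G ((1 : G) : G ⧸ nN M))).Normal := by
    rw [bti_stab_one M]
    exact Subgroup.normal_in_normalizer
  obtain ⟨hMcomm, p', f', hp', hexp, hΩcard'⟩ :=
    Cfsg.Agent.S0738.result hZ hab hd'' M hMle hMn (bti_A_regular h hf)
  have hpow : p' ^ f' = p ^ f := by omega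
  have hf'0 : f' ≠ 0 := by
    intro h0
    rw [h0, pow_zero] at hpow
    omega
  have hpp : p' = p := bti_apsl_prime_eq hp hp' hf'0 hpow
  -- characteristic
  have hf0 : f ≠ 0 := by
    intro h0
    rw [h0, pow_zero] at hmpf
    omega
  have hchar : CharP K p := by
    obtain ⟨n, hq, hn⟩ := FiniteField.card K (ringChar K)
    have hdvd' : ringChar K ∣ p ^ f := by
      rw [← hKcard, hn]
      exact dvd_pow_self _ n.ne_zero
    have h2 : ringChar K ∣ p := hq.dvd_of_dvd_pow hdvd'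
    have h3 : ringChar K = p := (Nat.prime_dvd_prime_iff_eq hq hp).mp h2
    rw [← h3]
    exact ringChar.charP K
  refine ⟨K, instK, instKfin, p, ⟨hp⟩, hchar, ?_, ⟨hMcomm, ?_⟩, ?_, ⟨φ⟩⟩
  · rw [hKcard, hmpf]
  · intro a ha
    rw [← hpp]
    exact hexp a ha
  · rw [hKcard, ← hmpf]
    obtain ⟨k, hk⟩ := hev
    omega

end Cfsg.Agent.BTI
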