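import Mathlib
import Cfsg.Agent.BTI.CentZ

set_option autoImplicit false

/-! S3043 package P8  (file `Cfsg/Agent/BTI/BCount.lean`): case `f ≥ 4`, counting -/

namespace Cfsg.Agent.BTI

open MulAction

variable {G : Type*} [Group G] [Finite G] {M : Subgroup G} {z : G}

omit [Finite G] in
theorem bti_bc_orderOf_conj (g u : G) : orderOf (g * u * g⁻¹) = orderOf u := by
  have : g * u * g⁻¹ = (MulAut.conj g) u := by simp [MulAut.conj_apply]
  rw [this]
  exact MulEquiv.orderOf_eq _ _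

/-- an involution with a fixed point on `G ⧸ N` is conjugate to `z` -/
theorem bti_fix_conj (h : Hyp M z) {u : G} (hu : orderOf u = 2) {q : G ⧸ nN M} (hq : u • q = q) :
    ∃ g : G, u = g * z * g⁻¹ := by
  induction q using QuotientGroup.induction_on with
  | H g =>
    rw [smul_mk_eq_iff, mem_cj] at hq
    have h2 : orderOf (g⁻¹ * u * g) = 2 := by
      have := bti_bc_orderOf_conj g⁻¹ u
      rw [inv_inv] at this
      rw [this, hu]
    obtain ⟨x, hx, hux⟩ := bti_N_invol h hq h2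
    refine ⟨g * x, ?_⟩
    have e : u = g * (g⁻¹ * u * g) * g⁻¹ := by group
    rw [e, hux]
    group

/-- `x ↦ x z x⁻¹` is injective on `M` -/
theorem bti_bc_conj_inj (h : Hyp M z) {x y : G} (hx : x ∈ M) (hy : y ∈ M)
    (hxy : x * z * x⁻¹ = y * z * y⁻¹) : x = y := by
  by_contra hne
  have h1 : y⁻¹ * x ∈ M := M.mul_mem (M.inv_mem hy) hx
  have h2 : y⁻¹ * x ≠ 1 := by
    intro e
    apply hne
    have : x = y * (y⁻¹ * x) := by group
    rw [this, e, mul_one]
  apply bti_no_invol_comm h h1 h2 h.hz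
  have e : z * (y⁻¹ * x) = y⁻¹ * (y * z * y⁻¹) * x := by group
  rw [e, ← hxy]
  group

omit [Finite G] in
theorem bti_bc_fix_of (M : Subgroup G) (g w : G) (hw : w ∈ nN M) :
    (g * w * g⁻¹) • ((g : G) : G ⧸ nN M) = ((g : G) : G ⧸ nN M) := by
  rw [smul_mk_eq_iff, mem_cj]
  have : g⁻¹ * (g * w * g⁻¹) * g = w := by group
  rw [this]
  exact hw

/-- the pairs (point, involution fixing it) -/
abbrev btiPairs (M : Subgroup G) : Type _ :=
  {p : (G ⧸ nN M) × G // orderOf p.2 = 2 ∧ p.2 • p.1 = p.1}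

theorem bti_bc_card_pairs (h : Hyp M z) :
    Nat.card (btiPairs M) = (nN M).index * Nat.card M := by
  classical
  have hzN : z ∈ nN M := h.hzN
  have hMN : M ≤ nN M := bti_M_le_N M
  let e₁ : (G ⧸ nN M) × M → btiPairs M := fun p =>
    ⟨(p.1, p.1.out * ((p.2 : G) * z * (p.2 : G)⁻¹) * p.1.out⁻¹), by
      constructor
      · show orderOf (p.1.out * ((p.2 : G) * z * (p.2 : G)⁻¹) * p.1.out⁻¹) = 2
        rw [bti_bc_orderOf_conj, bti_bc_orderOf_conj, h.hz]
      · show (p.1.out * ((p.2 : G) * z * (p.2 : G)⁻¹) * p.1.out⁻¹) • p.1 = p.1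
        have := bti_bc_fix_of M p.1.out ((p.2 : G) * z * (p.2 : G)⁻¹)
          ((nN M).mul_mem ((nN M).mul_mem (hMN p.2.2) hzN) ((nN M).inv_mem (hMN p.2.2)))
        rwa [QuotientGroup.out_eq' p.1] at this⟩
  have hbij : Function.Bijective e₁ := by
    constructor
    · rintro ⟨q, x⟩ ⟨q', x'⟩ hpp
      have h1 : q = q' := congrArg (fun t : btiPairs M => t.1.1) hpp
      subst h1
      have h2 : q.out * ((x : G) * z * (x : G)⁻¹) * q.out⁻¹ =
          q.out * ((x' : G) * z * (x' : G)⁻¹) * q.out⁻¹ :=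
        congrArg (fun t : btiPairs M => t.1.2) hpp
      have h3 : (x : G) * z * (x : G)⁻¹ = (x' : G) * z * (x' : G)⁻¹ := by
        have e1 : ∀ w : G, q.out⁻¹ * (q.out * w * q.out⁻¹) * q.out = w := fun w => by group
        rw [← e1 ((x : G) * z * (x : G)⁻¹), h2, e1]
      have h4 := bti_bc_conj_inj h x.2 x'.2 h3
      rw [Prod.mk.injEq]
      exact ⟨rfl, Subtype.ext h4⟩
    · rintro ⟨⟨q, u⟩, ho, hfix⟩
      have ho' : orderOf u = 2 := ho
      have hfix' : u • q = q := hfix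
      have hfix'' : u • ((q.out : G) : G ⧸ nN M) = ((q.out : G) : G ⧸ nN M) := by
        rw [QuotientGroup.out_eq']
        exact hfix'
      rw [smul_mk_eq_iff, mem_cj] at hfix''
      have h2 : orderOf (q.out⁻¹ * u * q.out) = 2 := by
        have := bti_bc_orderOf_conj q.out⁻¹ u
        rw [inv_inv] at this
        rw [this, ho']
      obtain ⟨x, hx, hux⟩ := bti_N_invol h hfix'' h2
      refine ⟨(q, ⟨x, hx⟩), ?_⟩
      apply Subtype.ext
      show (q, q.out * (x * z * x⁻¹) * q.out⁻¹) = (q, u)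
      rw [← hux]
      congr 1
      group
  rw [← Nat.card_congr (Equiv.ofBijective e₁ hbij), Nat.card_prod]
  rfl

theorem bti_bc_card_pairs' (h : Hyp M z) :
    Nat.card (btiPairs M) =
      Nat.card {u : G // orderOf u = 2 ∧ ∃ q : G ⧸ nN M, u • q = q} * fZ M z := by
  classical
  have hex : ∀ u : {u : G // orderOf u = 2 ∧ ∃ q : G ⧸ nN M, u • q = q},
      ∃ g : G, (u : G) = g * z * g⁻¹ := by
    rintro ⟨u, hu, q, hq⟩
    exact bti_fix_conj h hu hq
  choose γ hγ using hex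
  let e₂ : {u : G // orderOf u = 2 ∧ ∃ q : G ⧸ nN M, u • q = q} × {q : G ⧸ nN M // z • q = q} →
      btiPairs M := fun p =>
    ⟨(γ p.1 • (p.2 : G ⧸ nN M), (p.1 : G)), by
      constructor
      · exact p.1.2.1
      · show (p.1 : G) • γ p.1 • (p.2 : G ⧸ nN M) = γ p.1 • (p.2 : G ⧸ nN M)
        conv_lhs => rw [hγ p.1]
        rw [← mul_smul]
        have : γ p.1 * z * (γ p.1)⁻¹ * γ p.1 = γ p.1 * z := by group
        rw [this, mul_smul, p.2.2]⟩
  have hbij : Function.Bijective e₂ := by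
    constructor
    · rintro ⟨u, q⟩ ⟨u', q'⟩ hpp
      have h1 : (u : G) = (u' : G) := congrArg (fun t : btiPairs M => t.1.2) hpp
      have hu : u = u' := Subtype.ext h1
      subst hu
      have h2 : γ u • (q : G ⧸ nN M) = γ u • (q' : G ⧸ nN M) :=
        congrArg (fun t : btiPairs M => t.1.1) hpp
      have hq : (q : G ⧸ nN M) = q' := smul_left_cancel _ h2
      rw [Prod.mk.injEq]
      exact ⟨rfl, Subtype.ext hq⟩
    · rintro ⟨⟨q, u⟩, ho, hfix⟩
      have ho' : orderOf u = 2 := ho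
      have hfix' : u • q = q := hfix
      let U : {u : G // orderOf u = 2 ∧ ∃ q : G ⧸ nN M, u • q = q} := ⟨u, ho', q, hfix'⟩
      have hU : u = γ U * z * (γ U)⁻¹ := hγ U
      have hz' : z • ((γ U)⁻¹ • q) = (γ U)⁻¹ • q := by
        have e : z = (γ U)⁻¹ * u * γ U := by
          rw [hU]; group
        conv_lhs => rw [e]
        rw [← mul_smul]
        have : (γ U)⁻¹ * u * γ U * (γ U)⁻¹ = (γ U)⁻¹ * u := by group
        rw [this, mul_smul, hfix']
      refine ⟨(U, ⟨(γ U)⁻¹ • q, hz'⟩), ?_⟩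
      apply Subtype.ext
      show (γ U • (γ U)⁻¹ • q, u) = (q, u)
      rw [smul_inv_smul]
  rw [← Nat.card_congr (Equiv.ofBijective e₂ hbij), Nat.card_prod]
  rfl

/-- double counting: `#{involutions with a fixed point} * f = n * m` -/
theorem bti_fix_count (h : Hyp M z) :
    Nat.card {u : G // orderOf u = 2 ∧ ∃ q : G ⧸ nN M, u • q = q} * fZ M z =
      (nN M).index * Nat.card M := by
  rw [← bti_bc_card_pairs' h, bti_bc_card_pairs h]

/-- the numerical facts of the case `f ≥ 4` -/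
theorem bti_bc_numeric (h : Hyp M z) (hf : 4 ≤ fZ M z) :
    Nat.card (cC M z) = 2 ∧
    (nN M).index + Nat.card M = 1 + fZ M z * Nat.card M ∧
    Nat.card {g : G // orderOf g = 2} + 2 = Nat.card M + (nN M).index * 2 ∧
    Nat.card {u : G // orderOf u = 2 ∧ ∃ q : G ⧸ nN M, u • q = q} * fZ M z =
      (nN M).index * Nat.card M ∧
    Nat.card {u : G // orderOf u = 2 ∧ ∃ q : G ⧸ nN M, u • q = q} ≤
      Nat.card {g : G // orderOf g = 2} := by
  have hc : Nat.card (cC M z) = 2 := by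
    rcases bti_dichotomy h with h2 | ⟨-, hc, -⟩
    · omega
    · exact hc
  refine ⟨hc, bti_index_eq h, ?_, bti_fix_count h, ?_⟩
  · have := bti_card_invol h
    rw [hc] at this
    exact this
  · apply Nat.card_le_card_of_injective
      (fun u : {u : G // orderOf u = 2 ∧ ∃ q : G ⧸ nN M, u • q = q} =>
        (⟨u.1, u.2.1⟩ : {g : G // orderOf g = 2}))
    intro u u' huu
    apply Subtype.ext
    exact congrArg (fun t : {g : G // orderOf g = 2} => (t : G)) huu

theorem bti_bc_index (h : Hyp M z) (hf : 4 ≤ fZ M z) :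
    (nN M).index = 1 + (fZ M z - 1) * Nat.card M := by
  have e1 := bti_index_eq h
  obtain ⟨f', hf'⟩ : ∃ f', fZ M z = f' + 1 := ⟨fZ M z - 1, by omega⟩
  rw [hf'] at e1 ⊢
  rw [Nat.add_sub_cancel]
  have : (f' + 1) * Nat.card M = f' * Nat.card M + Nat.card M := by ring
  omega

theorem bti_B_cases (h : Hyp M z) (hf : 4 ≤ fZ M z) :
    Nat.card M = fZ M z + 1 ∨ Nat.card M = 2 * fZ M z + 1 := by
  obtain ⟨-, -, e2, e3, e4⟩ := bti_bc_numeric h hf
  have e1 := bti_bc_index h hf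
  obtain ⟨k, hk⟩ := bti_f_pow h
  have hodd := bti_odd_M h
  have h3 := bti_three_le h
  generalize Nat.card {u : G // orderOf u = 2 ∧ ∃ q : G ⧸ nN M, u • q = q} = I at e3 e4
  generalize Nat.card {g : G // orderOf g = 2} = i at e2 e4
  generalize (nN M).index = n at e1 e2 e3
  generalize Nat.card M = m at *
  generalize fZ M z = f at *
  obtain ⟨f', rfl⟩ : ∃ f', f = f' + 1 := ⟨f - 1, by omega⟩
  rw [Nat.add_sub_cancel] at e1
  obtain ⟨m', rfl⟩ : ∃ m', m = m' + 1 := ⟨m - 1, by omega⟩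
  -- (a) `f ∣ m - 1`
  have hcop : Nat.Coprime (f' + 1) (m' + 1) := by
    rw [hk]
    exact Nat.Coprime.pow_left k (Nat.coprime_two_left.mpr hodd)
  have hd1 : (f' + 1) ∣ n * (m' + 1) := ⟨I, by rw [← e3]; ring⟩
  have hd2 : (f' + 1) ∣ n * (m' + 1) + m' * (m' + 1) := by
    refine ⟨(m' + 1) * (m' + 1), ?_⟩
    rw [e1]
    ring
  have hd3 : (f' + 1) ∣ m' * (m' + 1) := (Nat.dvd_add_right hd1).mp hd2
  have hd4 : (f' + 1) ∣ m' := hcop.dvd_of_dvd_mul_right hd3
  -- (b) `m ≤ 2 f + 1`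
  have hb : m' ≤ 2 * (f' + 1) := by
    have hI : I ≤ (m' + 1) + 2 * f' * (m' + 1) := by
      have : i = (m' + 1) + n * 2 - 2 := by omega
      rw [e1] at this
      have h5 : (m' + 1) + (1 + f' * (m' + 1)) * 2 - 2 = (m' + 1) + 2 * f' * (m' + 1) := by
        have : (1 + f' * (m' + 1)) * 2 = 2 + 2 * f' * (m' + 1) := by ring
        omega
      omega
    have h6 : (1 + f' * (m' + 1)) * (m' + 1) ≤ ((m' + 1) + 2 * f' * (m' + 1)) * (f' + 1) := by
      rw [← e1, ← e3]
      exact Nat.mul_le_mul_right _ hI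
    have h7 : ((m' + 1) + 2 * f' * (m' + 1)) * (f' + 1) =
        ((1 + 2 * f') * (f' + 1)) * (m' + 1) := by ring
    rw [h7] at h6
    have h8 : 1 + f' * (m' + 1) ≤ (1 + 2 * f') * (f' + 1) :=
      Nat.le_of_mul_le_mul_right h6 (Nat.succ_pos m')
    have h9 : f' * (m' + 1) ≤ f' * (2 * f' + 3) := by
      have : (1 + 2 * f') * (f' + 1) = 1 + f' * (2 * f' + 3) := by ring
      omega
    have h10 : m' + 1 ≤ 2 * f' + 3 := Nat.le_of_mul_le_mul_left h9 (by omega)
    omega
  -- (c)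
  obtain ⟨j, hj⟩ := hd4
  have hj1 : 1 ≤ j := by
    rcases Nat.eq_zero_or_pos j with h0 | h0
    · rw [h0, mul_zero] at hj
      omega
    · exact h0
  have hj2 : j ≤ 2 := by
    by_contra hcon
    have : 3 ≤ j := by omega
    have : (f' + 1) * 3 ≤ (f' + 1) * j := Nat.mul_le_mul_left _ this
    omega
  interval_cases j
  · left; omega
  · right; omega

theorem bti_B_card_G (h : Hyp M z) (hf : 4 ≤ fZ M z) :
    Nat.card G = 2 * Nat.card M * (1 + (fZ M z - 1) * Nat.card M) := by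
  obtain ⟨hc, -, -, -, -⟩ := bti_bc_numeric h hf
  rw [bti_card_G h, hc, bti_bc_index h hf]
  ring

theorem bti_B_nofpf (h : Hyp M z) (hf : 4 ≤ fZ M z) (hm : Nat.card M = 2 * fZ M z + 1) :
    ∀ u : G, orderOf u = 2 → ∃ g : G, u = g * z * g⁻¹ := by
  obtain ⟨-, -, e2, e3, -⟩ := bti_bc_numeric h hf
  have e1 := bti_bc_index h hf
  have hcard : Nat.card {g : G // orderOf g = 2} ≤
      Nat.card {u : G // orderOf u = 2 ∧ ∃ q : G ⧸ nN M, u • q = q} := by
    generalize Nat.card {u : G // orderOf u = 2 ∧ ∃ q : G ⧸ nN M, u • q = q} = I at e3 ⊢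
    generalize Nat.card {g : G // orderOf g = 2} = i at e2 ⊢
    generalize (nN M).index = n at e1 e2 e3
    generalize Nat.card M = m at *
    generalize fZ M z = f at *
    obtain ⟨f', rfl⟩ : ∃ f', f = f' + 1 := ⟨f - 1, by omega⟩
    rw [Nat.add_sub_cancel] at e1
    subst hm
    have hn : n = (2 * f' + 1) * (f' + 1) := by rw [e1]; ring
    have hi : i = (2 * f' + 1) * (2 * f' + 3) := by
      have : i + 2 = (2 * (f' + 1) + 1) + (2 * f' + 1) * (f' + 1) * 2 := by rw [e2, hn]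
      have h5 : (2 * (f' + 1) + 1) + (2 * f' + 1) * (f' + 1) * 2 =
          (2 * f' + 1) * (2 * f' + 3) + 2 := by ring
      omega
    have hI : I * (f' + 1) = ((2 * f' + 1) * (2 * f' + 3)) * (f' + 1) := by
      rw [e3, hn]; ring
    have := Nat.eq_of_mul_eq_mul_right (Nat.succ_pos f') hI
    rw [hi, this]
  intro u hu
  have hinj : Function.Injective
      (fun u : {u : G // orderOf u = 2 ∧ ∃ q : G ⧸ nN M, u • q = q} =>
        (⟨u.1, u.2.1⟩ : {g : G // orderOf g = 2})) := by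
    intro u u' huu
    apply Subtype.ext
    exact congrArg (fun t : {g : G // orderOf g = 2} => (t : G)) huu
  have hbij := hinj.bijective_of_nat_card_le hcard
  obtain ⟨⟨u', hu', q, hq⟩, hu''⟩ := hbij.2 ⟨u, hu⟩
  have : u' = u := congrArg (fun t : {g : G // orderOf g = 2} => (t : G)) hu''
  subst this
  exact bti_fix_conj h hu hq

theorem bti_B_fpf_card (h : Hyp M z) (hf : 4 ≤ fZ M z) (hm : Nat.card M = fZ M z + 1) :
    Nat.card {u : G // orderOf u = 2 ∧ ∀ q : G ⧸ nN M, u • q ≠ q} + 1 = fZ M z ^ 2 := by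
  obtain ⟨-, -, e2, e3, -⟩ := bti_bc_numeric h hf
  have e1 := bti_bc_index h hf
  have hsplit : Nat.card {g : G // orderOf g = 2} =
      Nat.card {u : G // orderOf u = 2 ∧ ∃ q : G ⧸ nN M, u • q = q} +
      Nat.card {u : G // orderOf u = 2 ∧ ∀ q : G ⧸ nN M, u • q ≠ q} := by
    have hA : Nat.card {g : G // orderOf g = 2} = ({g : G | orderOf g = 2}).ncard :=
      Nat.card_coe_set_eq _
    have hB : Nat.card {u : G // orderOf u = 2 ∧ ∃ q : G ⧸ nN M, u • q = q} =
        ({u : G | orderOf u = 2 ∧ ∃ q : G ⧸ nN M, u • q = q}).ncard :=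
      Nat.card_coe_set_eq _
    have hC : Nat.card {u : G // orderOf u = 2 ∧ ∀ q : G ⧸ nN M, u • q ≠ q} =
        ({u : G | orderOf u = 2 ∧ ∀ q : G ⧸ nN M, u • q ≠ q}).ncard :=
      Nat.card_coe_set_eq _
    rw [hA, hB, hC, ← Set.ncard_union_eq ?_ (Set.toFinite _) (Set.toFinite _)]
    · congr 1
      ext u
      simp only [Set.mem_ofPred_eq, Set.mem_union]
      constructor
      · intro hu
        by_cases hq : ∃ q : G ⧸ nN M, u • q = q
        · exact Or.inl ⟨hu, hq⟩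
        · push Not at hq
          exact Or.inr ⟨hu, hq⟩
      · rintro (hu | hu) <;> exact hu.1
    · rw [Set.disjoint_left]
      rintro u ⟨-, q, hq⟩ ⟨-, hn⟩
      exact hn q hq
  generalize Nat.card {u : G // orderOf u = 2 ∧ ∀ q : G ⧸ nN M, u • q ≠ q} = J at hsplit ⊢
  generalize Nat.card {u : G // orderOf u = 2 ∧ ∃ q : G ⧸ nN M, u • q = q} = I at e3 hsplit
  generalize Nat.card {g : G // orderOf g = 2} = i at e2 hsplit
  generalize (nN M).index = n at e1 e2 e3
  generalize Nat.card M = m at *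
  generalize fZ M z = f at *
  obtain ⟨f', rfl⟩ : ∃ f', f = f' + 1 := ⟨f - 1, by omega⟩
  rw [Nat.add_sub_cancel] at e1
  subst hm
  have hn : n = (f' + 1) * (f' + 1) := by rw [e1]; ring
  have hI : I * (f' + 1) = ((f' + 1) * (f' + 2)) * (f' + 1) := by
    rw [e3, hn]; ring
  have hI' := Nat.eq_of_mul_eq_mul_right (Nat.succ_pos f') hI
  have hi : i + 2 = (f' + 1 + 1) + (f' + 1) * (f' + 1) * 2 := by rw [e2, hn]
  have h5 : (f' + 1) ^ 2 = (f' + 1) * (f' + 1) := by ring
  have h6 : (f' + 1) * (f' + 2) = (f' + 1) * (f' + 1) + (f' + 1) := by ring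
  rw [h5]
  omega

end Cfsg.Agent.BTI
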