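import Mathlib

set_option autoImplicit false

/-! S3043 package P10a  (file `Cfsg/Agent/BTI/Dih.lean`, PURE MATHLIB) -/

namespace Cfsg.Agent.BTI

section dih

variable {N : Type*} [Group N] (n : ℕ) (x : N)

/-- The additive homomorphism `ZMod n → Additive N`, `k ↦ x ^ k`, for `x ^ n = 1`. -/
noncomputable def bti_dih_e (hxn : x ^ n = 1) : ZMod n →+ Additive N :=
  ZMod.lift n ⟨zmultiplesHom (Additive N) (Additive.ofMul x), by
    rw [zmultiplesHom_apply, natCast_zsmul, ← ofMul_pow, hxn, ofMul_one]⟩

/-- `i ↦ x ^ i` on `ZMod n`. -/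
noncomputable def bti_dih_g (hxn : x ^ n = 1) (i : ZMod n) : N := Additive.toMul (bti_dih_e n x hxn i)

theorem bti_dih_g_add (hxn : x ^ n = 1) (i j : ZMod n) :
    bti_dih_g n x hxn (i + j) = bti_dih_g n x hxn i * bti_dih_g n x hxn j := by
  unfold bti_dih_g
  rw [map_add, toMul_add]

theorem bti_dih_g_zero (hxn : x ^ n = 1) : bti_dih_g n x hxn 0 = 1 := by
  unfold bti_dih_g
  rw [map_zero, toMul_zero]

theorem bti_dih_g_neg (hxn : x ^ n = 1) (i : ZMod n) :
    bti_dih_g n x hxn (-i) = (bti_dih_g n x hxn i)⁻¹ := by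
  unfold bti_dih_g
  rw [map_neg, toMul_neg]

theorem bti_dih_g_sub (hxn : x ^ n = 1) (i j : ZMod n) :
    bti_dih_g n x hxn (j - i) = (bti_dih_g n x hxn i)⁻¹ * bti_dih_g n x hxn j := by
  rw [sub_eq_add_neg, add_comm, bti_dih_g_add, bti_dih_g_neg]

theorem bti_dih_g_natCast (hxn : x ^ n = 1) (k : ℕ) : bti_dih_g n x hxn (k : ZMod n) = x ^ k := by
  unfold bti_dih_g bti_dih_e
  have : ((k : ℕ) : ZMod n) = ((k : ℤ) : ZMod n) := by push_cast; rfl
  rw [this, ZMod.lift_coe]
  simp

theorem bti_dih_g_mem (hxn : x ^ n = 1) [NeZero n] (i : ZMod n) :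
    bti_dih_g n x hxn i ∈ Subgroup.zpowers x := by
  have : i = ((i.val : ℕ) : ZMod n) := (ZMod.natCast_zmod_val i).symm
  rw [this, bti_dih_g_natCast]
  exact Subgroup.npow_mem_zpowers x _

theorem bti_dih_g_eq_one (hx : orderOf x = n) [NeZero n] (i : ZMod n)
    (h : bti_dih_g n x (hx ▸ pow_orderOf_eq_one x) i = 1) : i = 0 := by
  have hi : i = ((i.val : ℕ) : ZMod n) := (ZMod.natCast_zmod_val i).symm
  rw [hi, bti_dih_g_natCast] at h
  have hdvd : n ∣ i.val := by
    have := orderOf_dvd_of_pow_eq_one h
    rwa [hx] at this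
  have hlt : i.val < n := ZMod.val_lt i
  have : i.val = 0 := Nat.eq_zero_of_dvd_of_lt hdvd hlt
  rw [hi, this, Nat.cast_zero]

end dih

theorem bti_dihedral {N : Type*} [Group N] (n : ℕ) [NeZero n] (x z : N) (hx : orderOf x = n)
    (hz : orderOf z = 2) (hinv : z * x * z⁻¹ = x⁻¹) (hzx : z ∉ Subgroup.zpowers x)
    (hcard : Nat.card N = 2 * n) : Nonempty (N ≃* DihedralGroup n) := by
  have hxn : x ^ n = 1 := hx ▸ pow_orderOf_eq_one x
  have hz2 : z * z = 1 := by rw [← pow_two, ← hz]; exact pow_orderOf_eq_one z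
  have hzinv : z⁻¹ = z := inv_eq_of_mul_eq_one_left hz2
  set g := bti_dih_g n x hxn with hg
  -- `z` inverts every power of `x`
  have hinvg : ∀ i : ZMod n, z * g i * z = (g i)⁻¹ := by
    intro i
    have hi : i = ((i.val : ℕ) : ZMod n) := (ZMod.natCast_zmod_val i).symm
    rw [hi, hg, bti_dih_g_natCast]
    have : z * x ^ i.val * z = (z * x * z⁻¹) ^ i.val := by
      rw [conj_pow, hzinv]
    rw [this, hinv, inv_pow]
  have hfin : Finite N := Nat.finite_of_card_ne_zero (by rw [hcard]; exact mul_ne_zero two_ne_zero (NeZero.ne n))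
  -- the homomorphism
  let f : DihedralGroup n →* N :=
    { toFun := fun d => match d with
        | DihedralGroup.r i => g i
        | DihedralGroup.sr i => z * g i
      map_one' := by
        change g 0 = 1
        exact bti_dih_g_zero n x hxn
      map_mul' := by
        rintro (i | i) (j | j)
        · change g (i + j) = g i * g j
          exact bti_dih_g_add n x hxn i j
        · change z * g (j - i) = g i * (z * g j)
          rw [hg, bti_dih_g_sub, ← hg]
          have h1 := hinvg i
          have : g i * z = z * (g i)⁻¹ := by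
            rw [← h1]
            calc g i * z = (z * z) * g i * z := by rw [hz2, one_mul]
              _ = z * (z * g i * z) := by group
          calc z * ((g i)⁻¹ * g j) = (z * (g i)⁻¹) * g j := by group
            _ = (g i * z) * g j := by rw [this]
            _ = g i * (z * g j) := by group
        · change z * g (i + j) = z * g i * g j
          rw [hg, bti_dih_g_add, mul_assoc]
        · change g (j - i) = z * g i * (z * g j)
          rw [hg, bti_dih_g_sub, ← hg, ← hinvg i]
          group }
  have hfr : ∀ i, f (DihedralGroup.r i) = g i := fun _ => rfl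
  have hfsr : ∀ i, f (DihedralGroup.sr i) = z * g i := fun _ => rfl
  have hinj : Function.Injective f := by
    rw [injective_iff_map_eq_one]
    rintro (i | i) h
    · rw [hfr] at h
      have := bti_dih_g_eq_one n x hx i h
      rw [this]; rfl
    · exfalso
      rw [hfsr] at h
      apply hzx
      have : z = (g i)⁻¹ := eq_inv_of_mul_eq_one_left h
      rw [this]
      exact inv_mem (bti_dih_g_mem n x hxn i)
  have hbij : Function.Bijective f := by
    rw [Nat.bijective_iff_injective_and_card]
    exact ⟨hinj, by rw [DihedralGroup.nat_card, hcard]⟩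
  exact ⟨(MulEquiv.ofBijective f hbij).symm⟩

end Cfsg.Agent.BTI
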