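import Mathlib
import Cfsg.Agent.BTI.BCount
import Cfsg.Agent.BTI.Dih
import Cfsg.Agent.S0200
import Cfsg.Agent.Helper4.PCore
import Cfsg.Agent.Helper5.Cores
import Cfsg.Agent.Helper1.FPFSub

set_option autoImplicit false

/-! S3043 package P10b  (file `Cfsg/Agent/BTI/BAff.lean`): case `f ≥ 4`, `m = f + 1` -/

namespace Cfsg.Agent.BTI

open MulAction

variable {G : Type*} [Group G] [Finite G] {M : Subgroup G} {z : G}

omit [Finite G] in
/-- an element killed by a power of two and by an odd number is trivial -/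
theorem bti_baff_eq_one_of_pow {a : G} {j m : ℕ} (h1 : a ^ (2 ^ j) = 1) (h2 : a ^ m = 1)
    (hm : Odd m) : a = 1 := by
  have d1 : orderOf a ∣ 2 ^ j := orderOf_dvd_of_pow_eq_one h1
  have d2 : orderOf a ∣ m := orderOf_dvd_of_pow_eq_one h2
  have hc : Nat.Coprime (2 ^ j) m := Nat.Coprime.pow_left j (Nat.coprime_two_left.mpr hm)
  have h3 : orderOf a ∣ 1 := by
    have := Nat.dvd_gcd d1 d2
    rwa [hc.gcd_eq_one] at this
  exact orderOf_eq_one_iff.mp (Nat.dvd_one.mp h3)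

omit [Finite G] in
theorem bti_baff_pow_card {H : Subgroup G} {a : G} (ha : a ∈ H) : a ^ Nat.card H = 1 := by
  have h0 : (⟨a, ha⟩ : H) ^ Nat.card H = 1 := pow_card_eq_one'
  have h00 := congrArg Subtype.val h0
  rwa [Subgroup.coe_pow, Subgroup.coe_one] at h00

omit [Finite G] in
theorem bti_baff_core_pow {a : G} (ha : a ∈ Cfsg.pCore 2 G) : ∃ j : ℕ, a ^ (2 ^ j) = 1 := by
  obtain ⟨j, hj⟩ := (Cfsg.Agent.Helper5.isPGroup_pCore (G := G) 2) ⟨a, ha⟩
  refine ⟨j, ?_⟩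
  have h00 := congrArg Subtype.val hj
  rwa [Subgroup.coe_pow, Subgroup.coe_one] at h00

/-- `M ∩ O_2(G) = 1` -/
theorem bti_baff_M_inf_core (h : Hyp M z) {a : G} (ha : a ∈ M) (haQ : a ∈ Cfsg.pCore 2 G) :
    a = 1 := by
  obtain ⟨j, hj⟩ := bti_baff_core_pow haQ
  exact bti_baff_eq_one_of_pow hj (bti_baff_pow_card ha) (bti_odd_M h)

theorem bti_B_core_inf (h : Hyp M z) {g : G} : Cfsg.pCore 2 G ⊓ cj g (nN M) = ⊥ := by
  have hQn : (Cfsg.pCore 2 G).Normal := Cfsg.Agent.Helper4.pCore_normal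
  rw [eq_bot_iff]
  intro w hw
  rw [Subgroup.mem_bot]
  obtain ⟨hwQ, hwg⟩ := Subgroup.mem_inf.mp hw
  rw [mem_cj] at hwg
  have hw'Q : g⁻¹ * w * g ∈ Cfsg.pCore 2 G := by
    have := hQn.conj_mem w hwQ g⁻¹
    simpa using this
  have hcomm : ∀ x ∈ M, (g⁻¹ * w * g) * x = x * (g⁻¹ * w * g) := by
    intro x hx
    have h1 : (g⁻¹ * w * g) * x * (g⁻¹ * w * g)⁻¹ * x⁻¹ ∈ M :=
      M.mul_mem (bti_twoPt_conj_mem hwg hx) (M.inv_mem hx)
    have h2 : (g⁻¹ * w * g) * x * (g⁻¹ * w * g)⁻¹ * x⁻¹ ∈ Cfsg.pCore 2 G := by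
      have e : (g⁻¹ * w * g) * x * (g⁻¹ * w * g)⁻¹ * x⁻¹ =
          (g⁻¹ * w * g) * (x * (g⁻¹ * w * g)⁻¹ * x⁻¹) := by group
      rw [e]
      exact Subgroup.mul_mem _ hw'Q (hQn.conj_mem _ (Subgroup.inv_mem _ hw'Q) x)
    have h3 := bti_baff_M_inf_core h h1 h2
    have h4 := mul_inv_eq_one.mp h3
    exact mul_inv_eq_iff_eq_mul.mp h4
  obtain ⟨⟨x, hx⟩, hx1⟩ := (Subgroup.ne_bot_iff_exists_ne_one).mp h.hM1
  have hx1' : x ≠ 1 := fun hc => hx1 (Subtype.ext hc)
  have hcen : g⁻¹ * w * g ∈ Subgroup.centralizer ({x} : Set G) := by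
    rw [Subgroup.mem_centralizer_iff]
    intro k hk
    rw [Set.mem_singleton_iff.mp hk]
    exact (hcomm x hx).symm
  obtain ⟨j, hj⟩ := bti_baff_core_pow hw'Q
  have h5 : g⁻¹ * w * g = 1 :=
    bti_baff_eq_one_of_pow hj (bti_baff_pow_card hcen) (h.hodd x hx hx1')
  have e : w = g * (g⁻¹ * w * g) * g⁻¹ := by group
  rw [e, h5]
  group

/-- an involution without fixed points lies in `O_2(G)` -/
theorem bti_B_fpf_mem_core (h : Hyp M z) (hf : 4 ≤ fZ M z) (hm : Nat.card M = fZ M z + 1)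
    {u : G} (hu : orderOf u = 2) (hfpf : ∀ q : G ⧸ nN M, u • q ≠ q) : u ∈ Cfsg.pCore 2 G := by
  by_contra hnot
  have hO : ∀ N : Subgroup G, N.Normal → IsPGroup 2 N → u ∉ N := fun N hN hp hc =>
    hnot (Cfsg.Agent.Helper4.le_pCore N hN hp hc)
  obtain ⟨h0, h01, hodd, hinv⟩ := Cfsg.Agent.S0200.result u hu hO
  have hne1 : orderOf h0 ≠ 1 := fun hc => h01 (orderOf_eq_one_iff.mp hc)
  obtain ⟨r, hr, hrd⟩ := Nat.exists_prime_and_dvd hne1
  haveI : Fact r.Prime := ⟨hr⟩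
  have hrodd : Odd r := Odd.of_dvd_nat hodd hrd
  obtain ⟨e, he⟩ := hrd
  have hpos : 0 < orderOf h0 := orderOf_pos h0
  have he0 : e ≠ 0 := by
    intro hc
    rw [hc, mul_zero] at he
    omega
  have hyord : orderOf (h0 ^ e) = r := by
    rw [orderOf_pow_of_dvd he0 ⟨r, by rw [he]; ring⟩, he]
    exact Nat.mul_div_cancel r (Nat.pos_of_ne_zero he0)
  have hyinv : u * (h0 ^ e) * u⁻¹ = (h0 ^ e)⁻¹ := by
    rw [← conj_pow, hinv, inv_pow]
  have hy1 : h0 ^ e ≠ 1 := by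
    intro hc
    rw [hc, orderOf_one] at hyord
    exact hr.one_lt.ne hyord
  -- a Sylow `r`-subgroup of `M` is Sylow in `G`
  obtain ⟨k, hk⟩ := bti_f_pow h
  have hG : Nat.card G = Nat.card M * (2 * (fZ M z * fZ M z)) := by
    rw [bti_B_card_G h hf, hm]
    obtain ⟨f', hf'⟩ : ∃ f', fZ M z = f' + 1 := ⟨fZ M z - 1, by omega⟩
    rw [hf']
    simp only [Nat.add_sub_cancel]
    ring
  have hr2 : ¬ r ∣ 2 * (fZ M z * fZ M z) := by
    intro hc
    have h2 : 2 * (fZ M z * fZ M z) = 2 ^ (2 * k + 1) := by rw [hk]; ring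
    rw [h2] at hc
    have h3 := hr.dvd_of_dvd_pow hc
    have h4 := (Nat.prime_dvd_prime_iff_eq hr Nat.prime_two).mp h3
    rw [h4] at hrodd
    exact absurd hrodd (by decide)
  have hfact : (Nat.card G).factorization r = (Nat.card M).factorization r := by
    have hm0 : Nat.card M ≠ 0 := Nat.card_pos.ne'
    have hb0 : 2 * (fZ M z * fZ M z) ≠ 0 := by
      intro hc
      apply hr2
      rw [hc]
      exact dvd_zero r
    rw [hG, Nat.factorization_mul hm0 hb0]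
    simp [Nat.factorization_eq_zero_of_not_dvd hr2]
  let P : Sylow r ↥M := default
  have hPcard : Nat.card ((P : Subgroup ↥M).map M.subtype) =
      r ^ (Nat.card G).factorization r := by
    rw [Subgroup.card_map_of_injective M.subtype_injective, hfact]
    exact P.card_eq_multiplicity
  let PG : Sylow r G := Sylow.ofCard _ hPcard
  obtain ⟨S, hS⟩ := (IsPGroup.of_card (p := r) (n := 1)
    (by rw [Nat.card_zpowers, hyord, pow_one]) : IsPGroup r (Subgroup.zpowers (h0 ^ e))).exists_le_sylow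
  obtain ⟨g, hg⟩ := MulAction.exists_smul_eq G PG S
  have hyS : h0 ^ e ∈ (S : Subgroup G) := hS (Subgroup.mem_zpowers _)
  rw [← hg, Sylow.coe_subgroup_smul, Subgroup.mem_smul_pointwise_iff_exists] at hyS
  obtain ⟨x0, hx0, hx0y⟩ := hyS
  have hx0M : x0 ∈ M := by
    have : x0 ∈ (P : Subgroup ↥M).map M.subtype := hx0
    obtain ⟨p, _, hp⟩ := this
    rw [← hp]
    exact p.2
  have hx0y' : g * x0 * g⁻¹ = h0 ^ e := by
    rw [← hx0y]
    simp [MulAut.smul_def, MulAut.conj_apply]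
  have hx01 : x0 ≠ 1 := by
    intro hc
    apply hy1
    rw [← hx0y', hc]
    group
  have hmem : (g⁻¹ * u * g) * x0 * (g⁻¹ * u * g)⁻¹ ∈ M := by
    have e1 : (g⁻¹ * u * g) * x0 * (g⁻¹ * u * g)⁻¹ = g⁻¹ * (u * (g * x0 * g⁻¹) * u⁻¹) * g := by
      group
    rw [e1, hx0y', hyinv, ← hx0y']
    have e2 : g⁻¹ * (g * x0 * g⁻¹)⁻¹ * g = x0⁻¹ := by group
    rw [e2]
    exact M.inv_mem hx0M
  have huN : g⁻¹ * u * g ∈ nN M := bti_mem_N_of_conj_mem h hx0M hx01 hmem
  exact hfpf (g : G ⧸ nN M) ((smul_mk_eq_iff M u g).mpr (mem_cj.mpr huN))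

omit [Finite G] in
/-- a subgroup of exponent two is commutative -/
theorem bti_baff_comm_of_sq {E : Subgroup G} (hE : ∀ a ∈ E, a * a = 1) {a b : G} (ha : a ∈ E)
    (hb : b ∈ E) : a * b = b * a := by
  have h1 := hE a ha
  have h2 := hE b hb
  have h3 := hE (a * b) (E.mul_mem ha hb)
  have e1 : a⁻¹ = a := inv_eq_of_mul_eq_one_left h1
  have e2 : b⁻¹ = b := inv_eq_of_mul_eq_one_left h2
  have e3 : (a * b)⁻¹ = a * b := inv_eq_of_mul_eq_one_left h3
  rw [mul_inv_rev, e1, e2] at e3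
  exact e3.symm

theorem bti_B_aff (h : Hyp M z) (hf : 4 ≤ fZ M z) (hm : Nat.card M = fZ M z + 1) :
    ∃ (d : ℕ) (E : Subgroup G), 1 ≤ d ∧ E.Normal ∧ Cfsg.IsElementaryAbelian 2 E ∧
      Nat.card E = 2 ^ (2 * d) ∧ E ⊓ Subgroup.normalizer (M : Set G) = ⊥ ∧
      E ⊔ Subgroup.normalizer (M : Set G) = ⊤ ∧
      Nonempty (↥(Subgroup.normalizer (M : Set G)) ≃* DihedralGroup (2 ^ d + 1)) := by
  have hQn : (Cfsg.pCore 2 G).Normal := Cfsg.Agent.Helper4.pCore_normal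
  -- `Q ∩ N = 1`
  have hQN : Cfsg.pCore 2 G ⊓ nN M = ⊥ := by
    have h1 := bti_B_core_inf h (g := (1 : G))
    rw [eq_bot_iff] at h1 ⊢
    intro w hw
    apply h1
    obtain ⟨hwQ, hwN⟩ := Subgroup.mem_inf.mp hw
    refine Subgroup.mem_inf.mpr ⟨hwQ, ?_⟩
    rw [mem_cj]
    simpa using hwN
  -- numerical data
  have hc2 : Nat.card (cC M z) = 2 := by
    rcases bti_dichotomy h with h2 | ⟨_, hc, _⟩
    · omega
    · exact hc
  obtain ⟨k, hk⟩ := bti_f_pow h
  have hk2 : 2 ≤ k := by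
    by_contra hlt
    have : k = 0 ∨ k = 1 := by omega
    rcases this with rfl | rfl <;> simp at hk <;> omega
  have hidx : (nN M).index = fZ M z * fZ M z := by
    have h1 := bti_index_eq h
    rw [hm] at h1
    have e : fZ M z * (fZ M z + 1) = fZ M z * fZ M z + fZ M z := by ring
    omega
  -- `Q` embeds into `G ⧸ N`
  let ι : ↥(Cfsg.pCore 2 G) → G ⧸ nN M := fun a => ((a : G) : G ⧸ nN M)
  have hιinj : Function.Injective ι := by
    intro a b hab
    have h1 : (a : G)⁻¹ * (b : G) ∈ nN M := QuotientGroup.eq.mp hab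
    have h2 : (a : G)⁻¹ * (b : G) ∈ Cfsg.pCore 2 G ⊓ nN M :=
      Subgroup.mem_inf.mpr ⟨Subgroup.mul_mem _ (Subgroup.inv_mem _ a.2) b.2, h1⟩
    rw [hQN, Subgroup.mem_bot] at h2
    exact Subtype.ext (inv_mul_eq_one.mp h2)
  have hle : Nat.card ↥(Cfsg.pCore 2 G) ≤ fZ M z * fZ M z := by
    rw [← hidx]
    exact Nat.card_le_card_of_injective ι hιinj
  -- the fixed-point-free involutions and `1` fill `Q`
  let κ : Option {u : G // orderOf u = 2 ∧ ∀ q : G ⧸ nN M, u • q ≠ q} → ↥(Cfsg.pCore 2 G) :=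
    fun o => match o with
      | none => 1
      | some u => ⟨u.1, bti_B_fpf_mem_core h hf hm u.2.1 u.2.2⟩
  have hκinj : Function.Injective κ := by
    intro o o' hoo
    match o, o' with
    | none, none => rfl
    | none, some u =>
      exfalso
      have h1 : (1 : G) = u.1 := congrArg (fun q : ↥(Cfsg.pCore 2 G) => (q : G)) hoo
      have h2 := u.2.1
      rw [← h1, orderOf_one] at h2
      omega
    | some u, none =>
      exfalso
      have h1 : u.1 = (1 : G) := congrArg (fun q : ↥(Cfsg.pCore 2 G) => (q : G)) hoo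
      have h2 := u.2.1
      rw [h1, orderOf_one] at h2
      omega
    | some u, some u' =>
      have h1 : u.1 = u'.1 := congrArg (fun q : ↥(Cfsg.pCore 2 G) => (q : G)) hoo
      exact congrArg some (Subtype.ext h1)
  have hcardκ : Nat.card (Option {u : G // orderOf u = 2 ∧ ∀ q : G ⧸ nN M, u • q ≠ q}) =
      fZ M z * fZ M z := by
    rw [Finite.card_option, bti_B_fpf_card h hf hm, pow_two]
  have hge : fZ M z * fZ M z ≤ Nat.card ↥(Cfsg.pCore 2 G) := by
    rw [← hcardκ]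
    exact Nat.card_le_card_of_injective κ hκinj
  have hcardQ : Nat.card ↥(Cfsg.pCore 2 G) = fZ M z * fZ M z := le_antisymm hle hge
  have hκbij : Function.Bijective κ :=
    hκinj.bijective_of_nat_card_le (by rw [hcardκ, hcardQ])
  have hιbij : Function.Bijective ι :=
    hιinj.bijective_of_nat_card_le (by
      have : Nat.card (G ⧸ nN M) = (nN M).index := rfl
      rw [this, hidx, hcardQ])
  -- exponent two
  have hsq : ∀ a ∈ Cfsg.pCore 2 G, a * a = 1 := by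
    intro a ha
    obtain ⟨o, ho⟩ := hκbij.2 ⟨a, ha⟩
    match o, ho with
    | none, ho =>
      have h1 : (1 : G) = a := congrArg (fun q : ↥(Cfsg.pCore 2 G) => (q : G)) ho
      rw [← h1, mul_one]
    | some u, ho =>
      have h1 : u.1 = a := congrArg (fun q : ↥(Cfsg.pCore 2 G) => (q : G)) ho
      have h2 : u.1 ^ 2 = 1 := by
        have := pow_orderOf_eq_one u.1
        rwa [u.2.1] at this
      rw [← h1, ← pow_two]
      exact h2
  have hQcomm : IsMulCommutative ↥(Cfsg.pCore 2 G) :=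
    ⟨⟨fun a b => Subtype.ext (bti_baff_comm_of_sq hsq a.2 b.2)⟩⟩
  have hEA : Cfsg.IsElementaryAbelian 2 (Cfsg.pCore 2 G) :=
    ⟨hQcomm, fun a ha => by rw [pow_two]; exact hsq a ha⟩
  have hcardQ2 : Nat.card ↥(Cfsg.pCore 2 G) = 2 ^ (2 * k) := by
    rw [hcardQ, hk]
    ring
  -- `Q N = G`
  have hsup : Cfsg.pCore 2 G ⊔ nN M = ⊤ := by
    rw [eq_top_iff]
    intro g _
    obtain ⟨a, ha⟩ := hιbij.2 ((g : G) : G ⧸ nN M)
    have h1 : (a : G)⁻¹ * g ∈ nN M := QuotientGroup.eq.mp ha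
    have e : g = (a : G) * ((a : G)⁻¹ * g) := by group
    rw [e]
    exact Subgroup.mul_mem _ (Subgroup.mem_sup_left a.2) (Subgroup.mem_sup_right h1)
  -- `M` is cyclic
  have hQbot : Cfsg.pCore 2 G ≠ ⊥ := by
    intro hc
    rw [hc, Subgroup.card_bot] at hcardQ
    nlinarith
  have hMcomm : IsMulCommutative ↥M := ⟨⟨fun a b => Subtype.ext (bti_M_comm h a.2 b.2)⟩⟩
  have hMnorm : M ≤ Subgroup.normalizer ((Cfsg.pCore 2 G : Subgroup G) : Set G) := by
    intro x _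
    rw [Subgroup.mem_normalizer_iff]
    intro q
    constructor
    · intro hq
      exact hQn.conj_mem q hq x
    · intro hq
      have := hQn.conj_mem _ hq x⁻¹
      simpa [mul_assoc] using this
  have hfpfQ : ∀ a ∈ M, a ≠ 1 →
      Cfsg.pCore 2 G ⊓ Subgroup.centralizer ({a} : Set G) = ⊥ := by
    intro a ha ha1
    rw [eq_bot_iff]
    intro w hw
    rw [Subgroup.mem_bot]
    obtain ⟨hwQ, hwC⟩ := Subgroup.mem_inf.mp hw
    obtain ⟨j, hj⟩ := bti_baff_core_pow hwQ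
    exact bti_baff_eq_one_of_pow hj (bti_baff_pow_card hwC) (h.hodd a ha ha1)
  haveI := hQcomm
  have hMcyc : IsCyclic ↥M :=
    Cfsg.Agent.Helper1.isCyclic_of_fpf_of_comm M (Cfsg.pCore 2 G) hQbot hMnorm hfpfQ hMcomm
  obtain ⟨x0, hx0⟩ := hMcyc.exists_generator
  have hx0ord : orderOf x0 = 2 ^ k + 1 := by
    rw [orderOf_eq_card_of_forall_mem_zpowers hx0, hm, hk]
  -- dihedral structure of `N`
  let x' : ↥(nN M) := ⟨(x0 : G), bti_M_le_N M x0.2⟩
  let z' : ↥(nN M) := ⟨z, h.hzN⟩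
  have hx'ord : orderOf x' = 2 ^ k + 1 := by
    rw [← hx0ord, ← Subgroup.orderOf_coe x', ← Subgroup.orderOf_coe x0]
  have hz'ord : orderOf z' = 2 := by
    rw [← Subgroup.orderOf_coe z']
    exact h.hz
  have hinv' : z' * x' * z'⁻¹ = x'⁻¹ := by
    apply Subtype.ext
    show z * (x0 : G) * z⁻¹ = (x0 : G)⁻¹
    exact bti_z_inverts h x0.2
  have hzx' : z' ∉ Subgroup.zpowers x' := by
    intro hc
    obtain ⟨i, hi⟩ := Subgroup.mem_zpowers_iff.mp hc
    have h1 : (x0 : G) ^ i = z := by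
      have := congrArg Subtype.val hi
      simpa [x', z'] using this
    have hzM : z ∈ M := by
      rw [← h1]
      exact M.zpow_mem x0.2 i
    have h2 : z ^ (2 ^ 1) = 1 := by
      have := pow_orderOf_eq_one z
      rwa [h.hz] at this
    have h3 := bti_baff_eq_one_of_pow h2 (bti_baff_pow_card hzM) (bti_odd_M h)
    have h4 := h.hz
    rw [h3, orderOf_one] at h4
    omega
  have hcardN : Nat.card ↥(nN M) = 2 * (2 ^ k + 1) := by
    rw [bti_card_N h, hc2, hm, hk]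
    ring
  refine ⟨k, Cfsg.pCore 2 G, by omega, hQn, hEA, hcardQ2, hQN, hsup, ?_⟩
  exact bti_dihedral (2 ^ k + 1) x' z' hx'ord hz'ord hinv' hzx' hcardN

end Cfsg.Agent.BTI
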