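import Mathlib

set_option autoImplicit false

/-! S3043 package P9a  (file `Cfsg/Agent/BTI/SL2Cyc.lean`, PURE MATHLIB) -/

namespace Cfsg.Agent.BTI

open Matrix

section linear

variable {F : Type*} [Field F]

/-- Two vectors of `F²` with vanishing cross product, the first non-zero, are proportional. -/
theorem bti_sl2_parallel {v w : Fin 2 → F} (hv : v ≠ 0) (h : v 0 * w 1 - v 1 * w 0 = 0) :
    ∃ c : F, w = c • v := by
  by_cases h0 : v 0 = 0
  · have h1 : v 1 ≠ 0 := by
      intro h1
      apply hv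
      funext i
      fin_cases i
      · exact h0
      · exact h1
    refine ⟨w 1 / v 1, ?_⟩
    funext i
    fin_cases i
    · simp only [Fin.zero_eta, Pi.smul_apply, smul_eq_mul, h0, mul_zero]
      rw [h0, zero_mul, zero_sub, neg_eq_zero] at h
      rcases mul_eq_zero.mp h with h' | h'
      · exact absurd h' h1
      · exact h'
    · simp only [Fin.mk_one, Pi.smul_apply, smul_eq_mul]
      field_simp
  · refine ⟨w 0 / v 0, ?_⟩
    funext i
    fin_cases i
    · simp only [Fin.zero_eta, Pi.smul_apply, smul_eq_mul]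
      field_simp
    · simp only [Fin.mk_one, Pi.smul_apply, smul_eq_mul]
      field_simp
      linear_combination h

/-- A non-zero singular `2 × 2` matrix has a one-dimensional kernel. -/
theorem bti_sl2_kernel {T : Matrix (Fin 2) (Fin 2) F} (hT : T ≠ 0) (hdet : T.det = 0) :
    ∃ v : Fin 2 → F, v ≠ 0 ∧ T.mulVec v = 0 ∧ ∀ w : Fin 2 → F, T.mulVec w = 0 → ∃ c : F, w = c • v := by
  obtain ⟨v, hv, hTv⟩ := Matrix.exists_mulVec_eq_zero_iff.mpr hdet
  refine ⟨v, hv, hTv, fun w hw => ?_⟩
  apply bti_sl2_parallel hv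
  by_contra hne
  apply hT
  -- the matrix with columns `v`, `w` is invertible
  set V : Matrix (Fin 2) (Fin 2) F := Matrix.of ![![v 0, w 0], ![v 1, w 1]] with hV
  have hVdet : V.det = v 0 * w 1 - v 1 * w 0 := by
    rw [Matrix.det_fin_two]
    simp [hV]
    ring
  have hTV : T * V = 0 := by
    ext i j
    have h1 := congrFun hTv i
    have h2 := congrFun hw i
    simp only [Matrix.mulVec, dotProduct, Fin.sum_univ_two, Pi.zero_apply] at h1 h2
    fin_cases j
    · simp [hV, Matrix.mul_apply, Fin.sum_univ_two]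
      exact h1
    · simp [hV, Matrix.mul_apply, Fin.sum_univ_two]
      exact h2
  have hunit : IsUnit V.det := by rw [hVdet]; exact isUnit_iff_ne_zero.mpr hne
  calc T = T * (V * V⁻¹) := by rw [Matrix.mul_nonsing_inv V hunit, Matrix.mul_one]
    _ = (T * V) * V⁻¹ := by rw [Matrix.mul_assoc]
    _ = 0 := by rw [hTV, Matrix.zero_mul]

end linear

section eigen

variable {F : Type*} [Field F] [Fintype F] [CharP F 2]

theorem bti_sl2_card_even : 2 ∣ Fintype.card F := by
  obtain ⟨n, _, hn⟩ := FiniteField.card F 2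
  rw [hn]
  exact dvd_pow_self 2 n.ne_zero

theorem bti_sl2_coprime {k : ℕ} (hk : k ∣ Fintype.card F + 1) : Nat.Coprime k (Fintype.card F - 1) := by
  obtain ⟨m, hm⟩ := bti_sl2_card_even (F := F)
  have hq1 : 1 < Fintype.card F := Fintype.one_lt_card
  have h1 : Nat.Coprime (Fintype.card F + 1) (Fintype.card F - 1) := by
    rw [hm]
    have e : 2 * m + 1 = 2 + (2 * m - 1) := by omega
    rw [e, Nat.coprime_add_self_left]
    rw [Nat.coprime_two_left]
    rw [Nat.odd_iff]
    omega
  exact Nat.Coprime.coprime_dvd_left hk h1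

theorem bti_sl2_odd {k : ℕ} (hk : k ∣ Fintype.card F + 1) : Odd k := by
  obtain ⟨m, hm⟩ := bti_sl2_card_even (F := F)
  have : Odd (Fintype.card F + 1) := by rw [hm]; exact ⟨m, rfl⟩
  exact Odd.of_dvd_nat this hk

/-- An element of `SL₂(F)`, `F` of characteristic two, of order dividing `|F| + 1` with an eigenvector over `F` is trivial. -/
theorem bti_sl2_eigen_trivial (y : Matrix.SpecialLinearGroup (Fin 2) F) (k : ℕ) (hk : y ^ k = 1)
    (hkq : k ∣ Fintype.card F + 1) {u : Fin 2 → F} (hu : u ≠ 0) {c : F}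
    (h : (y : Matrix (Fin 2) (Fin 2) F).mulVec u = c • u) : y = 1 := by
  have hdet : (y : Matrix (Fin 2) (Fin 2) F).det = 1 := y.2
  -- the eigenvalue is non-zero
  have hc0 : c ≠ 0 := by
    rintro rfl
    rw [zero_smul] at h
    have := Matrix.exists_mulVec_eq_zero_iff.mp ⟨u, hu, h⟩
    rw [hdet] at this
    exact one_ne_zero this
  -- powers
  have hpow : ∀ j : ℕ, ((y : Matrix (Fin 2) (Fin 2) F) ^ j).mulVec u = c ^ j • u := by
    intro j
    induction j with
    | zero => simp
    | succ j ih =>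
      rw [pow_succ, ← Matrix.mulVec_mulVec, h, Matrix.mulVec_smul, ih, smul_smul, pow_succ, mul_comm]
  have hck : c ^ k = 1 := by
    have h1 := hpow k
    have h2 : (y : Matrix (Fin 2) (Fin 2) F) ^ k = 1 := by
      rw [← Matrix.SpecialLinearGroup.coe_pow, hk, Matrix.SpecialLinearGroup.coe_one]
    rw [h2, Matrix.one_mulVec] at h1
    obtain ⟨i, hi⟩ : ∃ i, u i ≠ 0 := by
      by_contra hall
      push Not at hall
      exact hu (funext hall)
    have := congrFun h1 i
    simp only [Pi.smul_apply, smul_eq_mul] at this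
    have h3 : (c ^ k - 1) * u i = 0 := by rw [sub_mul, one_mul, ← this, sub_self]
    rcases mul_eq_zero.mp h3 with h4 | h4
    · exact sub_eq_zero.mp h4
    · exact absurd h4 hi
  have hcq : c ^ (Fintype.card F - 1) = 1 := FiniteField.pow_card_sub_one_eq_one c hc0
  have hc1 : c = 1 := by
    have := pow_gcd_eq_one.mpr ⟨hck, hcq⟩
    rwa [Nat.Coprime.gcd_eq_one (bti_sl2_coprime hkq), pow_one] at this
  rw [hc1, one_smul] at h
  -- `det (y - 1) = 0`
  have hdet1 : ((y : Matrix (Fin 2) (Fin 2) F) - 1).det = 0 := by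
    apply Matrix.exists_mulVec_eq_zero_iff.mp
    refine ⟨u, hu, ?_⟩
    rw [Matrix.sub_mulVec, h, Matrix.one_mulVec, sub_self]
  have h2 : (2 : F) = 0 := CharTwo.two_eq_zero
  rw [Matrix.det_fin_two] at hdet hdet1
  simp only [Matrix.sub_apply, Matrix.one_apply_eq, Matrix.one_apply_ne, ne_eq, zero_ne_one,
    not_false_eq_true, one_ne_zero, Fin.isValue, sub_zero] at hdet1
  have htr : (y : Matrix (Fin 2) (Fin 2) F) 0 0 + (y : Matrix (Fin 2) (Fin 2) F) 1 1 = 0 := by
    linear_combination hdet - hdet1 + h2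
  -- `y ^ 2 = 1`
  have hsq : y ^ 2 = 1 := by
    apply Subtype.ext
    rw [Matrix.SpecialLinearGroup.coe_pow, Matrix.SpecialLinearGroup.coe_one, pow_two]
    ext i j
    fin_cases i <;> fin_cases j <;>
      simp only [Fin.zero_eta, Fin.mk_one, Matrix.mul_apply, Fin.sum_univ_two, Fin.isValue,
        Matrix.one_apply_eq, Matrix.one_apply_ne, ne_eq, zero_ne_one, one_ne_zero, not_false_eq_true]
    · linear_combination (y : Matrix (Fin 2) (Fin 2) F) 0 0 * htr - hdet - h2
    · linear_combination (y : Matrix (Fin 2) (Fin 2) F) 0 1 * htr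
    · linear_combination (y : Matrix (Fin 2) (Fin 2) F) 1 0 * htr
    · linear_combination (y : Matrix (Fin 2) (Fin 2) F) 1 1 * htr - hdet - h2
  have hodd := bti_sl2_odd (F := F) hkq
  have := pow_gcd_eq_one.mpr ⟨hsq, hk⟩
  have hg : Nat.gcd 2 k = 1 := Nat.coprime_two_left.mpr hodd
  rwa [hg, pow_one] at this

end eigen

section main

variable {F : Type*} [Field F] [Fintype F] [CharP F 2]

open scoped IsMulCommutative in
/-- **P9a.**  An abelian subgroup of `SL₂(F)`, `F` a finite field of characteristic two, whose order divides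
`|F| + 1`, is cyclic. -/
theorem bti_sl2_cyclic (A : Subgroup (Matrix.SpecialLinearGroup (Fin 2) F))
    (hcomm : ∀ x ∈ A, ∀ y ∈ A, x * y = y * x) (hcard : Nat.card A ∣ Fintype.card F + 1) :
    IsCyclic A := by
  classical
  by_cases hbot : A = ⊥
  · subst hbot
    infer_instance
  -- the set of matrices of `A`
  set S : Set (Matrix (Fin 2) (Fin 2) F) :=
    (fun x : Matrix.SpecialLinearGroup (Fin 2) F => (x : Matrix (Fin 2) (Fin 2) F)) '' (A : Set _) with hS
  have hScomm : ∀ a ∈ S, ∀ b ∈ S, a * b = b * a := by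
    rintro a ⟨x, hx, rfl⟩ b ⟨y, hy, rfl⟩
    have := hcomm x hx y hy
    have h2 := congrArg (fun z : Matrix.SpecialLinearGroup (Fin 2) F => (z : Matrix (Fin 2) (Fin 2) F)) this
    simpa using h2
  -- elements of the adjoined algebra commute with `S`
  have hcent : ∀ T ∈ Algebra.adjoin F S, ∀ g ∈ S, g * T = T * g := by
    intro T hT
    have hle : Algebra.adjoin F S ≤ Subalgebra.centralizer F S := by
      apply Algebra.adjoin_le
      intro a ha
      rw [SetLike.mem_coe, Subalgebra.mem_centralizer_iff]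
      intro g hg
      exact hScomm g hg a ha
    exact (Subalgebra.mem_centralizer_iff F).mp (hle hT)
  -- non-zero elements of the adjoined algebra are invertible
  have key : ∀ T ∈ Algebra.adjoin F S, T ≠ 0 → T.det ≠ 0 := by
    intro T hT hT0 hdet
    apply hbot
    obtain ⟨v, hv, hTv, hker⟩ := bti_sl2_kernel hT0 hdet
    rw [Subgroup.eq_bot_iff_forall]
    intro y hy
    have hyS : (y : Matrix (Fin 2) (Fin 2) F) ∈ S := ⟨y, hy, rfl⟩
    have hc := hcent T hT _ hyS
    have h1 : T.mulVec ((y : Matrix (Fin 2) (Fin 2) F).mulVec v) = 0 := by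
      rw [Matrix.mulVec_mulVec, ← hc, ← Matrix.mulVec_mulVec, hTv, Matrix.mulVec_zero]
    obtain ⟨c, hc'⟩ := hker _ h1
    have hpow : y ^ Nat.card A = 1 := by
      have h2 : (⟨y, hy⟩ : A) ^ Nat.card A = 1 := pow_card_eq_one'
      have h3 := congrArg Subtype.val h2
      rw [Subgroup.coe_pow, Subgroup.coe_one] at h3
      exact h3
    exact bti_sl2_eigen_trivial y (Nat.card A) hpow hcard hv hc'
  haveI hmc : IsMulCommutative (Algebra.adjoin F S) := Algebra.isMulCommutative_adjoin F hScomm
  haveI hnt : Nontrivial (Algebra.adjoin F S) := ⟨⟨0, 1, fun h => by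
    have h1 := congrArg Subtype.val h
    simp at h1⟩⟩
  haveI hnz : NoZeroDivisors (Algebra.adjoin F S) := ⟨fun {a b} hab => by
    by_cases ha : a = 0
    · exact Or.inl ha
    · right
      have ha' : (a : Matrix (Fin 2) (Fin 2) F) ≠ 0 := fun h => ha (Subtype.ext h)
      have hd := key a.1 a.2 ha'
      have hab' : (a : Matrix (Fin 2) (Fin 2) F) * (b : Matrix (Fin 2) (Fin 2) F) = 0 := by
        have h1 := congrArg Subtype.val hab
        simpa using h1
      apply Subtype.ext
      calc (b : Matrix (Fin 2) (Fin 2) F)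
          = (a : Matrix (Fin 2) (Fin 2) F)⁻¹ * ((a : Matrix (Fin 2) (Fin 2) F) * (b : Matrix (Fin 2) (Fin 2) F)) := by
            rw [← Matrix.mul_assoc, Matrix.nonsing_inv_mul _ (isUnit_iff_ne_zero.mpr hd), Matrix.one_mul]
        _ = 0 := by rw [hab', Matrix.mul_zero]⟩
  haveI hdom : IsDomain (Algebra.adjoin F S) := NoZeroDivisors.to_isDomain _
  -- the embedding of `A`
  let f : A →* Algebra.adjoin F S :=
    { toFun := fun x => ⟨((x : Matrix.SpecialLinearGroup (Fin 2) F) : Matrix (Fin 2) (Fin 2) F),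
        Algebra.subset_adjoin ⟨x, x.2, rfl⟩⟩
      map_one' := by
        apply Subtype.ext
        simp
      map_mul' := by
        intro x y
        apply Subtype.ext
        simp }
  have hf : Function.Injective f := by
    intro x y hxy
    have h1 := congrArg Subtype.val hxy
    apply Subtype.ext
    apply Subtype.ext
    exact h1
  haveI : Finite A := inferInstance
  exact isCyclic_of_injective_ringHom f hf

/-- In characteristic two the centre of `SL₂(F)` is trivial. -/
theorem bti_sl2_center_eq_bot :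
    Subgroup.center (Matrix.SpecialLinearGroup (Fin 2) F) = ⊥ := by
  rw [Subgroup.eq_bot_iff_forall]
  intro x hx
  obtain ⟨r, hr, hrx⟩ := Matrix.SpecialLinearGroup.mem_center_iff.mp hx
  rw [Fintype.card_fin] at hr
  have h2 : (2 : F) = 0 := CharTwo.two_eq_zero
  have hr1 : r = 1 := by
    have h3 : (r - 1) ^ 2 = 0 := by linear_combination hr + (1 - r) * h2
    exact sub_eq_zero.mp ((pow_eq_zero_iff (two_ne_zero)).mp h3)
  apply Subtype.ext
  rw [← hrx, hr1]
  simp

/-- **P9a.**  The same for `PSL₂(F)`. -/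
theorem bti_psl2_cyclic (A : Subgroup (Matrix.ProjectiveSpecialLinearGroup (Fin 2) F))
    (hcomm : ∀ x ∈ A, ∀ y ∈ A, x * y = y * x) (hcard : Nat.card A ∣ Fintype.card F + 1) :
    IsCyclic A := by
  classical
  set π : Matrix.SpecialLinearGroup (Fin 2) F →* Matrix.ProjectiveSpecialLinearGroup (Fin 2) F :=
    QuotientGroup.mk' (Subgroup.center (Matrix.SpecialLinearGroup (Fin 2) F)) with hπ
  have hπsurj : Function.Surjective π := QuotientGroup.mk'_surjective _
  have hπinj : Function.Injective π := by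
    rw [← MonoidHom.ker_eq_bot_iff, hπ, QuotientGroup.ker_mk']
    exact bti_sl2_center_eq_bot
  set B : Subgroup (Matrix.SpecialLinearGroup (Fin 2) F) := A.comap π with hB
  have hBcomm : ∀ x ∈ B, ∀ y ∈ B, x * y = y * x := by
    intro x hx y hy
    apply hπinj
    rw [map_mul, map_mul]
    exact hcomm _ hx _ hy
  have hsurj : Function.Surjective (π.subgroupComap A) :=
    π.subgroupComap_surjective_of_surjective A hπsurj
  have hinj : Function.Injective (π.subgroupComap A) := by
    intro x y hxy
    have h1 := congrArg Subtype.val hxy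
    apply Subtype.ext
    exact hπinj h1
  have hBcard : Nat.card B = Nat.card A := Nat.card_eq_of_bijective _ ⟨hinj, hsurj⟩
  haveI : IsCyclic B := bti_sl2_cyclic B hBcomm (hBcard ▸ hcard)
  exact isCyclic_of_surjective (π.subgroupComap A) hsurj

end main

end Cfsg.Agent.BTI
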