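import Mathlib
import Cfsg.Agent.BTI.BCount
import Cfsg.Agent.BTI.SL2Cyc
import Cfsg.Agent.S1230

set_option autoImplicit false

/-! S3043 package P9b  (file `Cfsg/Agent/BTI/BPsl.lean`): case `f ≥ 4`, `m = 2f + 1` -/

namespace Cfsg.Agent.BTI

open MulAction

variable {G : Type*} [Group G] [Finite G] {M : Subgroup G} {z : G}

/-- a group of exponent two is commutative -/
theorem bti_bpsl_comm_of_sq {H : Type*} [Group H] (hsq : ∀ a : H, a * a = 1) (a b : H) :
    a * b = b * a := by
  have h1 : a⁻¹ = a := inv_eq_of_mul_eq_one_right (hsq a)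
  have h2 : b⁻¹ = b := inv_eq_of_mul_eq_one_right (hsq b)
  have h3 : (a * b)⁻¹ = a * b := inv_eq_of_mul_eq_one_right (hsq (a * b))
  calc a * b = (a * b)⁻¹ := h3.symm
    _ = b⁻¹ * a⁻¹ := mul_inv_rev a b
    _ = b * a := by rw [h1, h2]

omit [Finite G] in
/-- the centraliser of a conjugate of `z` has exponent two -/
theorem bti_bpsl_cent_sq (hH : ∀ g ∈ Subgroup.centralizer ({z} : Set G), g * g = 1)
    {u g : G} (hu : u = g * z * g⁻¹) {c : G} (hc : c ∈ Subgroup.centralizer ({u} : Set G)) :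
    c * c = 1 := by
  have hcu : c * u = u * c := by
    rw [Subgroup.mem_centralizer_iff] at hc
    exact (hc u (Set.mem_singleton u)).symm
  have hmem : g⁻¹ * c * g ∈ Subgroup.centralizer ({z} : Set G) := by
    rw [Subgroup.mem_centralizer_iff]
    intro y hy
    rw [Set.mem_singleton_iff] at hy
    rw [hy]
    -- z * (g⁻¹ c g) = (g⁻¹ c g) * z
    have hz : z = g⁻¹ * u * g := by rw [hu]; group
    rw [hz]
    calc g⁻¹ * u * g * (g⁻¹ * c * g) = g⁻¹ * (u * c) * g := by group
      _ = g⁻¹ * (c * u) * g := by rw [hcu]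
      _ = g⁻¹ * c * g * (g⁻¹ * u * g) := by group
  have h1 := hH _ hmem
  have h2 : g⁻¹ * (c * c) * g = 1 := by
    calc g⁻¹ * (c * c) * g = (g⁻¹ * c * g) * (g⁻¹ * c * g) := by group
      _ = 1 := h1
  have h3 : c * c = g * (g⁻¹ * (c * c) * g) * g⁻¹ := by group
  rw [h3, h2]; group

theorem bti_B_psl (h : Hyp M z) (hf : 4 ≤ fZ M z) (hm : Nat.card M = 2 * fZ M z + 1) :
    ∃ (F : Type) (_ : Field F) (_ : Fintype F) (e : ℕ), 1 < e ∧ Fintype.card F = 2 ^ e ∧
      IsCyclic ↥M ∧ Nat.card M = 2 ^ e + 1 ∧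
      Nonempty (G ≃* Matrix.ProjectiveSpecialLinearGroup (Fin 2) F) := by
  classical
  -- the dichotomy
  obtain hd | ⟨-, hc2, hH⟩ := bti_dichotomy h
  · omega
  obtain ⟨k, hk⟩ := bti_f_pow h
  have hk2 : 2 ≤ k := by
    by_contra hlt
    have hlt' : k < 2 := not_le.mp hlt
    have : fZ M z ≤ 2 := by
      rw [hk]
      interval_cases k <;> simp
    omega
  have hGraw := bti_B_card_G h hf
  have hHraw := bti_card_centZ h
  have hconj := bti_B_nofpf h hf hm
  generalize hfgen : fZ M z = f at hf hm hk hGraw hHraw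
  -- order of H = C_G(z)
  have hcardH : Nat.card (Subgroup.centralizer ({z} : Set G)) = 2 ^ (k + 1) := by
    rw [hHraw, hc2, hk, pow_succ]
  -- order of G
  have hcardG : Nat.card G = 2 ^ (k + 1) * ((2 * f + 1) * (2 * f - 1)) := by
    rw [hGraw, hm]
    have hf1 : 1 ≤ f := by omega
    obtain ⟨f', rfl⟩ : ∃ f', f = f' + 1 := ⟨f - 1, by omega⟩
    rw [pow_succ, ← hk]
    simp only [Nat.add_sub_cancel]
    have : 2 * (f' + 1) - 1 = 2 * f' + 1 := by omega
    rw [this]
    ring
  have hoddpart : ¬ 2 ∣ (2 * f + 1) * (2 * f - 1) := by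
    intro hdvd
    rcases (Nat.Prime.dvd_mul Nat.prime_two).1 hdvd with h1 | h1 <;> omega
  have hfact : (Nat.card G).factorization 2 = k + 1 := by
    rw [hcardG]
    have hne1 : (2 : ℕ) ^ (k + 1) ≠ 0 := by positivity
    have hne2 : (2 * f + 1) * (2 * f - 1) ≠ 0 := by
      have : 1 ≤ 2 * f - 1 := by omega
      positivity
    rw [Nat.factorization_mul hne1 hne2]
    simp only [Finsupp.coe_add, Pi.add_apply]
    rw [Nat.Prime.factorization_pow Nat.prime_two]
    simp only [Finsupp.single_eq_same]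
    have : ((2 * f + 1) * (2 * f - 1)).factorization 2 = 0 :=
      Nat.factorization_eq_zero_of_not_dvd hoddpart
    omega
  -- the Sylow 2-subgroup
  have : Fact (Nat.Prime 2) := ⟨Nat.prime_two⟩
  let T : Sylow 2 G := Sylow.ofCard (Subgroup.centralizer ({z} : Set G)) (by rw [hcardH, hfact])
  have hT : (T : Subgroup G) = Subgroup.centralizer ({z} : Set G) := rfl
  -- exponent two
  have hsqT : ∀ a : (Subgroup.centralizer ({z} : Set G)), a * a = 1 := by
    intro a
    exact Subtype.ext (hH a.1 a.2)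
  -- not cyclic
  have hnc : ¬ IsCyclic (T : Subgroup G) := by
    rw [hT]
    intro hcyc
    obtain ⟨g, hg⟩ := hcyc.exists_generator
    have hord : orderOf g = Nat.card (Subgroup.centralizer ({z} : Set G)) :=
      orderOf_eq_card_of_forall_mem_zpowers hg
    have hle : orderOf g ≤ 2 := by
      apply orderOf_le_of_pow_eq_one (by norm_num)
      rw [pow_two]; exact hsqT g
    rw [hord, hcardH] at hle
    have : (2 : ℕ) ^ (2 + 1) ≤ 2 ^ (k + 1) := Nat.pow_le_pow_right (by norm_num) (by omega)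
    omega
  -- not normal
  have hnn : ¬ (T : Subgroup G).Normal := by
    rw [hT]
    intro hnorm
    have hzH : z ∈ Subgroup.centralizer ({z} : Set G) := by
      rw [Subgroup.mem_centralizer_iff]
      intro y hy
      rw [Set.mem_singleton_iff] at hy
      rw [hy]
    have hall : ∀ u : G, orderOf u = 2 → u ∈ Subgroup.centralizer ({z} : Set G) := by
      intro u hu
      obtain ⟨g, rfl⟩ := hconj u hu
      exact hnorm.conj_mem z hzH g
    have hcardle : Nat.card {g : G // orderOf g = 2} ≤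
        Nat.card (Subgroup.centralizer ({z} : Set G)) := by
      apply Nat.card_le_card_of_injective
        (fun u : {g : G // orderOf g = 2} =>
          (⟨u.1, hall u.1 u.2⟩ : (Subgroup.centralizer ({z} : Set G))))
      intro a b hab
      apply Subtype.ext
      exact congrArg (fun x : (Subgroup.centralizer ({z} : Set G)) => (x : G)) hab
    have hidx : M.index * Nat.card M = Nat.card G := by
      rw [mul_comm]; exact M.card_mul_index
    have hcnt := h.hcnt
    rw [hcardH] at hcardle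
    rw [hcardG, hm] at hidx
    have hM0 : 0 < 2 * f + 1 := by omega
    have hidx' : M.index = 2 ^ (k + 1) * (2 * f - 1) := by
      apply Nat.eq_of_mul_eq_mul_right hM0
      rw [hidx]; ring
    have h1 : 1 ≤ 2 * f - 1 := by omega
    have : 2 ^ (k + 1) ≤ M.index := by
      rw [hidx']
      exact Nat.le_mul_of_pos_right _ h1
    omega
  -- centralisers of involutions
  have hC : ∀ t : G, orderOf t = 2 →
      IsMulCommutative (Subgroup.centralizer ({t} : Set G)) ∧
        ∀ c ∈ Subgroup.centralizer ({t} : Set G), c ^ 2 = 1 := by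
    intro t ht
    obtain ⟨g, hg⟩ := hconj t ht
    have hsq : ∀ c ∈ Subgroup.centralizer ({t} : Set G), c * c = 1 :=
      fun c hc => bti_bpsl_cent_sq hH hg hc
    refine ⟨?_, fun c hc => by rw [pow_two]; exact hsq c hc⟩
    rw [isMulCommutative_iff]
    intro a b
    exact bti_bpsl_comm_of_sq (fun a : (Subgroup.centralizer ({t} : Set G)) =>
      Subtype.ext (hsq a.1 a.2)) a b
  obtain ⟨F, instF, instFin, hcardF, ⟨φ⟩⟩ := Cfsg.Agent.S1230.result T hnc hnn hC
  have hcardF' : Fintype.card F = 2 ^ (k + 1) := by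
    rw [hcardF]
    show Nat.card (T : Subgroup G) = _
    rw [hT, hcardH]
  have hmM : Nat.card M = 2 ^ (k + 1) + 1 := by
    rw [hm, hk, pow_succ]; ring
  -- characteristic two
  have hchar : CharP F 2 := by
    obtain ⟨n, hp, hn⟩ := FiniteField.card F (ringChar F)
    have hdvd : ringChar F ∣ 2 ^ (k + 1) := by
      rw [← hcardF', hn]
      exact dvd_pow_self _ n.ne_zero
    have h2 : ringChar F ∣ 2 := hp.dvd_of_dvd_pow hdvd
    have h3 : ringChar F = 2 := by
      rcases (Nat.dvd_prime Nat.prime_two).1 h2 with h4 | h4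
      · exact absurd h4 hp.ne_one
      · exact h4
    rw [← h3]
    exact ringChar.charP F
  refine ⟨F, instF, instFin, k + 1, by omega, hcardF', ?_, hmM, ⟨φ⟩⟩
  -- M is cyclic
  let A : Subgroup (Matrix.ProjectiveSpecialLinearGroup (Fin 2) F) := M.map φ.toMonoidHom
  have hAcomm : ∀ x ∈ A, ∀ y ∈ A, x * y = y * x := by
    rintro _ ⟨x, hx, rfl⟩ _ ⟨y, hy, rfl⟩
    show φ x * φ y = φ y * φ x
    rw [← map_mul, ← map_mul, bti_M_comm h hx hy]
  let ψ : M ≃* A := φ.subgroupMap M
  have hAcard : Nat.card A = Nat.card M := (Nat.card_congr ψ.toEquiv).symm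
  have hAdvd : Nat.card A ∣ Fintype.card F + 1 := by
    rw [hAcard, hmM, hcardF']
  have hAcyc : IsCyclic A := bti_psl2_cyclic A hAcomm hAdvd
  exact isCyclic_of_surjective ψ.symm.toMonoidHom ψ.symm.surjective

end Cfsg.Agent.BTI
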